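import Cfsg.Agent.KFacts.J2.Basic
import Cfsg.Agent.KFacts.MulSpor.J3
import Cfsg.Agent.J2Type.Cent5
import Cfsg.Agent.OddHalf.D9.ExTrick
import Cfsg.Agent.OddHalf.Iface
import Cfsg.Agent.StandardComponent.StdCtx
import Cfsg.Agent.Schreier.Basic
import Cfsg.Agent.OddHalf.D9.Kill
import Cfsg.Agent.OddHalf.D9.Cut

-- merged: Cfsg.Agent.OddHalf.D9.J2.Cover
section

/-!
# The double cover of the Hall–Janko group (helper341)

`π : L → X` a perfect double cover with kernel `{1, c}`, `X` with the data `Dat t u Q v ρ`.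

* `sq_t`, `sq_u`: the lifts of the conjugates of `t` are involutions, those of the conjugates of `u` have square `c`.
* `Lift`, `exists_lift`: the normal subgroup `⟨Z, e V i⟩ ≅ 2^{1+4}_-` of the preimage of `C(t)`, and `Lift.act`: the
  action of the automorphisms on it.
-/

set_option autoImplicit false
set_option linter.style.haveILetI false

namespace Cfsg.Agent.OddHalf.D9.J2.Cover

open Subgroup Cfsg.Agent.KFacts.MulTwo Cfsg.Agent.KFacts.MulDef Cfsg.Agent.KFacts.MulSpor.Class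
open Cfsg.Agent.J2Type.Model Cfsg.Agent.J2Type.SPFacts Cfsg.Agent.J2Type.CStruct
open Cfsg.Agent.J3Type.OneClass Cfsg.Agent.J2Type.Base Cfsg.Agent.KFacts.J2.Basic
open Cfsg.Agent.KFacts.MulSpor.J3 (map_zp nf_all sp_aux perm_two)
open scoped commutatorElement

variable {L X : Type*} [Group L] [Group X] {π : L →* X} {c : L} {t u : X}
  {Q : Subgroup (centralizer ({t} : Set X))} {v : Fin 5 → centralizer ({t} : Set X)}
  {ρ : centralizer ({t} : Set X) →* SP}

theorem comm_of (hd : Dbl π c) (D : Dat t u Q v ρ) {Z : L} (hZ : π Z = t) {g : L} (hg : π g * t = t * π g) :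
    g * Z = Z * g := comm_of_perfect hd D.perfect hZ hg

/-- commutators of lifts of `v i`, `v j` are involutions -/
theorem comm_sq (hd : Dbl π c) (D : Dat t u Q v ρ) {a b : L} (ha : π a = v 0) (hb : π b = v 1) :
    π (a * b * a⁻¹ * b⁻¹) = t ∧ (a * b * a⁻¹ * b⁻¹) * (a * b * a⁻¹ * b⁻¹) = 1 := by
  have h1 : π (a * b * a⁻¹ * b⁻¹) = t := by
    rw [map_mul, map_mul, map_mul, map_inv, map_inv, ha, hb, D.v_anti (show (0 : Fin 5) ≠ 1 by decide)]
    group
  refine ⟨h1, ?_⟩
  have hga : π a * t = t * π a := by rw [ha]; exact D.vt 0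
  have h2 := comm_of hd D h1 hga
  have h3 : a * a * b = b * (a * a) := by
    have h4 : π (a * a) = 1 := by rw [map_mul, ha, D.vv]
    rcases (hd.ker _).1 h4 with h | h
    · rw [h, one_mul, mul_one]
    · rw [h, hd.cen]
  set Z := a * b * a⁻¹ * b⁻¹ with hZ
  have h4 : a * b = Z * (b * a) := by rw [hZ]; group
  have h5 : a * (a * b) = Z * Z * (b * (a * a)) := by
    calc a * (a * b) = a * (Z * (b * a)) := by rw [← h4]
      _ = (a * Z) * (b * a) := by group
      _ = Z * (a * b) * a := by rw [h2]; group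
      _ = Z * (Z * (b * a)) * a := by rw [← h4]
      _ = _ := by group
  rw [← mul_assoc, h3] at h5
  exact (mul_eq_right.1 h5.symm)

/-- the lifts of the conjugates of `t` are involutions -/
theorem sq_t (hd : Dbl π c) (D : Dat t u Q v ρ) {x : L} (hx : IsConj t (π x)) : x * x = 1 := by
  obtain ⟨a, ha⟩ := hd.surj (v 0 : X)
  obtain ⟨b, hb⟩ := hd.surj (v 1 : X)
  obtain ⟨h1, h2⟩ := comm_sq hd D ha hb
  obtain ⟨g, hg⟩ := isConj_iff.1 hx
  rw [sq_conj hd (x := a * b * a⁻¹ * b⁻¹) g (by rw [h1, hg]) (by rw [h1, D.tt]), h2]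

theorem exists_cls (hd : Dbl π c) {Z : L} (hZ : π Z = t) {a : X} (ha : IsConj t a) : ∃ x ∈ Cls Z, π x = a := by
  obtain ⟨g, hg⟩ := isConj_iff.1 ha
  obtain ⟨g, rfl⟩ := hd.surj g
  exact ⟨g * Z * g⁻¹, ⟨g, rfl⟩, by rw [map_mul, map_mul, map_inv, hZ, hg]⟩

/-- the lifted extraspecial group -/
structure Lift (π : L →* X) (c : L) (t : X) (v : Fin 5 → centralizer ({t} : Set X)) (Z e : L) (V : Fin 5 → L) :
    Prop where
  πZ : π Z = t
  ZZ : Z * Z = 1
  ec : e = 1 ∨ e = c
  Vcls : ∀ i, V i ∈ Cls Z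
  πV : ∀ i, π (V i) = v i
  VV : ∀ i, V i * V i = 1
  Vac : ∀ i j, i ≠ j → V i * V j = Z * (V j * V i)
  prod : V 0 * V 1 * V 2 * V 3 * V 4 = e

theorem exists_lift (hd : Dbl π c) (D : Dat t u Q v ρ) : ∃ (Z e : L) (V : Fin 5 → L), Lift π c t v Z e V := by
  obtain ⟨a, ha⟩ := hd.surj (v 0 : X)
  obtain ⟨b, hb⟩ := hd.surj (v 1 : X)
  obtain ⟨hZπ, hZZ⟩ := comm_sq hd D ha hb
  set Z := a * b * a⁻¹ * b⁻¹ with hZdef
  have hC := D.perfect
  have hV : ∀ i, ∃ x ∈ Cls Z, π x = v i := fun i => exists_cls hd hZπ (D.isConj_v i)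
  choose V hVc hVπ using hV
  have hV2 : ∀ i, V i * V i = 1 := fun i => sq_t hd D (by rw [hVπ]; exact D.isConj_v i)
  -- `Z = [V 0, V 1]`
  have hZ01 : V 0 * V 1 = Z * (V 1 * V 0) := by
    have h1 : a * b = Z * (b * a) := by rw [hZdef]; group
    have ce : ∀ e : L, (e = 1 ∨ e = c) → ∀ x, e * x = x * e := by
      rintro e (rfl | rfl) x
      · rw [one_mul, mul_one]
      · exact hd.cen x
    have h0 : ∃ e, (e = 1 ∨ e = c) ∧ V 0 = e * a := by
      rcases eq_or hd (x := V 0) (y := a) (by rw [hVπ, ha]) with h | h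
      · exact ⟨1, Or.inl rfl, by rw [h, one_mul]⟩
      · exact ⟨c, Or.inr rfl, h⟩
    have h1' : ∃ e, (e = 1 ∨ e = c) ∧ V 1 = e * b := by
      rcases eq_or hd (x := V 1) (y := b) (by rw [hVπ, hb]) with h | h
      · exact ⟨1, Or.inl rfl, by rw [h, one_mul]⟩
      · exact ⟨c, Or.inr rfl, h⟩
    obtain ⟨e, he, h2⟩ := h0
    obtain ⟨f, hf, h3⟩ := h1'
    have ce1 := ce e he
    have cf1 := ce f hf
    rw [h2, h3]
    calc e * a * (f * b) = e * (a * f) * b := by group
      _ = e * (f * a) * b := by rw [cf1]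
      _ = (e * f) * (a * b) := by group
      _ = (e * f) * (Z * (b * a)) := by rw [h1]
      _ = e * (f * Z) * (b * a) := by group
      _ = e * (Z * f) * (b * a) := by rw [cf1]
      _ = (e * Z) * (f * b) * a := by group
      _ = (Z * e) * (f * b) * a := by rw [ce1]
      _ = Z * (e * (f * b)) * a := by group
      _ = Z * ((f * b) * e) * a := by rw [ce1]
      _ = Z * (f * b * (e * a)) := by group
  have hVac : ∀ i j, i ≠ j → V i * V j = Z * (V j * V i) := by
    intro i j hij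
    obtain ⟨σ, hσ, hi, hj⟩ := Cfsg.Agent.KFacts.QMinus.perm_aux 0 1 i j (by decide) hij
    obtain ⟨k, hk⟩ := Cfsg.Agent.KFacts.QMinus.exists_c D.M σ hσ
    obtain ⟨g, hg⟩ := hd.surj (k : X)
    have hgt : π g * t = t * π g := by rw [hg]; exact mem_cent.1 k.2
    have h0 : g * V 0 * g⁻¹ = V i := by
      apply uniq hd hC hZπ (conj_mem g (hVc 0)) (hVc i)
      rw [map_mul, map_mul, map_inv, hg, hVπ, hVπ, ← hi]
      exact congrArg Subtype.val (hk 0)
    have h1 : g * V 1 * g⁻¹ = V j := by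
      apply uniq hd hC hZπ (conj_mem g (hVc 1)) (hVc j)
      rw [map_mul, map_mul, map_inv, hg, hVπ, hVπ, ← hj]
      exact congrArg Subtype.val (hk 1)
    rw [← h0, ← h1]
    calc g * V 0 * g⁻¹ * (g * V 1 * g⁻¹) = g * (V 0 * V 1) * g⁻¹ := by group
      _ = (g * Z) * (V 1 * V 0) * g⁻¹ := by rw [hZ01]; group
      _ = (Z * g) * (V 1 * V 0) * g⁻¹ := by rw [comm_of hd D hZπ hgt]
      _ = _ := by group
  refine ⟨Z, _, V, ⟨hZπ, hZZ, (hd.ker _).1 ?_, hVc, hVπ, hV2, hVac, rfl⟩⟩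
  rw [map_mul, map_mul, map_mul, map_mul, hVπ, hVπ, hVπ, hVπ, hVπ]
  exact congrArg Subtype.val D.M.v_prod

variable {Z e : L} {V : Fin 5 → L}

theorem Lift.e_comm (Λ : Lift π c t v Z e V) (hd : Dbl π c) (x : L) : e * x = x * e := by
  rcases Λ.ec with h | h
  · rw [h, one_mul, mul_one]
  · rw [h]; exact hd.cen x

theorem Lift.ee (Λ : Lift π c t v Z e V) (hd : Dbl π c) : e * e = 1 := by
  rcases Λ.ec with h | h
  · rw [h, one_mul]
  · rw [h]; exact hd.sq

theorem Lift.πe (Λ : Lift π c t v Z e V) (hd : Dbl π c) : π e = 1 := (hd.ker e).2 Λ.ec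

theorem Lift.Z_comm_V (Λ : Lift π c t v Z e V) (hd : Dbl π c) (D : Dat t u Q v ρ) (i : Fin 5) :
    V i * Z = Z * V i := comm_of hd D Λ.πZ (by rw [Λ.πV]; exact D.vt i)

theorem Lift.Z_ne (Λ : Lift π c t v Z e V) (D : Dat t u Q v ρ) : Z ≠ 1 := by
  intro h
  have := Λ.πZ
  rw [h, map_one] at this
  exact D.t_ne this.symm

theorem Lift.π_zp (Λ : Lift π c t v Z e V) (a : ZMod 2) :
    π (zp Z a) = ((zp (zc t) a : centralizer ({t} : Set X)) : X) := by
  rcases zmod2_cases a with rfl | rfl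
  · rw [zp_zero, zp_zero, map_one]; rfl
  · rw [zp_one, zp_one, Λ.πZ]

/-- the elements `Z^a V i` are in the class of `Z` -/
theorem Lift.cls_zp (Λ : Lift π c t v Z e V) (a : ZMod 2) (i : Fin 5) : zp Z a * V i ∈ Cls Z := by
  rcases zmod2_cases a with rfl | rfl
  · rw [zp_zero, one_mul]; exact Λ.Vcls i
  · rw [zp_one]
    obtain ⟨j, hj⟩ : ∃ j : Fin 5, j ≠ i := by
      rcases eq_or_ne i 0 with h | h
      · exact ⟨1, by rw [h]; decide⟩
      · exact ⟨0, h.symm⟩
    have h4 : V j * V i * (V j)⁻¹ = Z * V i := by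
      rw [Λ.Vac j i hj]; group
    rw [← h4]
    exact conj_mem _ (Λ.Vcls i)

/-- the generators of the lifted group -/
def W (e : L) (V : Fin 5 → L) (i : Fin 5) : L := e * V i

theorem Lift.πW (Λ : Lift π c t v Z e V) (hd : Dbl π c) (i : Fin 5) : π (W e V i) = v i := by
  rw [W, map_mul, Λ.πe hd, one_mul, Λ.πV]

theorem Lift.WW (Λ : Lift π c t v Z e V) (hd : Dbl π c) (i : Fin 5) : W e V i * W e V i = 1 := by
  calc e * V i * (e * V i) = e * (V i * e) * V i := by group
    _ = e * (e * V i) * V i := by rw [← Λ.e_comm hd (V i)]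
    _ = (e * e) * (V i * V i) := by group
    _ = 1 := by rw [Λ.ee hd, Λ.VV, one_mul]

theorem Lift.Wac (Λ : Lift π c t v Z e V) (hd : Dbl π c) {i j : Fin 5} (hij : i ≠ j) :
    W e V i * W e V j = Z * (W e V j * W e V i) := by
  have h1 : ∀ a b : L, e * a * (e * b) = a * b := by
    intro a b
    calc e * a * (e * b) = e * (a * e) * b := by group
      _ = e * (e * a) * b := by rw [Λ.e_comm hd a]
      _ = (e * e) * (a * b) := by group
      _ = a * b := by rw [Λ.ee hd, one_mul]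
  rw [W, W, h1, h1, Λ.Vac i j hij]

theorem Lift.WZ (Λ : Lift π c t v Z e V) (hd : Dbl π c) (D : Dat t u Q v ρ) (i : Fin 5) :
    W e V i * Z = Z * W e V i := comm_of hd D Λ.πZ (by rw [Λ.πW hd]; exact D.vt i)

theorem Lift.Wprod (Λ : Lift π c t v Z e V) (hd : Dbl π c) :
    W e V 0 * W e V 1 * W e V 2 * W e V 3 * W e V 4 = 1 := by
  have h2 : ∀ a b : L, e * a * (e * b) = a * b := by
    intro a b
    calc e * a * (e * b) = e * (a * e) * b := by group
      _ = e * (e * a) * b := by rw [Λ.e_comm hd a]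
      _ = (e * e) * (a * b) := by group
      _ = a * b := by rw [Λ.ee hd, one_mul]
  have h1 : W e V 0 * W e V 1 * W e V 2 * W e V 3 * W e V 4 = e * (V 0 * V 1 * V 2 * V 3 * V 4) := by
    simp only [W]
    rw [h2, ← mul_assoc (V 0 * V 1) e, ← Λ.e_comm hd (V 0 * V 1), mul_assoc e, h2,
      ← mul_assoc (V 0 * V 1 * V 2 * V 3) e, ← Λ.e_comm hd (V 0 * V 1 * V 2 * V 3), mul_assoc e]
  rw [h1, Λ.prod, Λ.ee hd]

/-- the lifted group does not contain `c` -/
theorem Lift.c_notMem (Λ : Lift π c t v Z e V) (hd : Dbl π c) (D : Dat t u Q v ρ) :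
    c ∉ closure (Set.range (W e V)) := by
  intro hc
  obtain ⟨a, b0, b1, b2, b3, h⟩ := nf_all Λ.ZZ (Λ.WZ hd D) (Λ.WW hd) (fun i j => Λ.Wac hd) (Λ.Wprod hd) hc
  have h1 := congrArg π h
  rw [(hd.ker c).2 (Or.inr rfl), map_mul, map_mul, map_mul, map_mul, map_zp, map_zp, map_zp, map_zp, map_zp, Λ.πZ,
    Λ.πW hd, Λ.πW hd, Λ.πW hd, Λ.πW hd] at h1
  have h2 : (1 : centralizer ({t} : Set X)) = zp (zc t) a * (zp (v 0) b0 * (zp (v 1) b1 * (zp (v 2) b2 *
      zp (v 3) b3))) := by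
    apply Subtype.ext
    show (1 : X) = (centralizer ({t} : Set X)).subtype (zp (zc t) a * (zp (v 0) b0 * (zp (v 1) b1 * (zp (v 2) b2 *
      zp (v 3) b3))))
    rw [map_mul, map_mul, map_mul, map_mul, map_zp, map_zp, map_zp, map_zp, map_zp]
    exact h1
  have h3 := congrArg ρ h2
  rw [map_one, map_mul, map_mul, map_mul, map_mul, map_zp, map_zp, map_zp, map_zp, map_zp,
    rho_v D.M, rho_v D.M, rho_v D.M, rho_v D.M, rho_z D.M] at h3
  have h4 : zp (1 : SP) a = 1 := by
    rcases zmod2_cases a with rfl | rfl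
    · exact zp_zero _
    · exact zp_one _
  rw [h4, one_mul] at h3
  obtain ⟨rfl, rfl, rfl, rfl⟩ := sp_aux b0 b1 b2 b3 h3.symm
  rw [zp_zero, zp_zero, zp_zero, zp_zero, mul_one, mul_one, mul_one, mul_one] at h
  rcases zmod2_cases a with rfl | rfl
  · rw [zp_zero] at h
    exact hd.ne h
  · rw [zp_one] at h
    have := Λ.πZ
    rw [← h, (hd.ker c).2 (Or.inr rfl)] at this
    exact D.t_ne this.symm

/-- **The action of an automorphism on the lifted group.** -/
theorem Lift.act (Λ : Lift π c t v Z e V) (hd : Dbl π c) (D : Dat t u Q v ρ) (γ : MulAut L) (hγc : γ c = c)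
    (σ : Equiv.Perm (Fin 5)) (s : Fin 5 → ZMod 2)
    (h : ∀ i, π (γ (V i)) = ((zp (zc t) (s i) * v (σ i) : centralizer ({t} : Set X)) : X)) :
    γ Z = Z ∧ ∀ i, γ (W e V i) = zp Z (s i) * W e V (σ i) := by
  have hγe : γ e = e := by
    rcases Λ.ec with h | h
    · rw [h, map_one]
    · rw [h, hγc]
  -- `γ (V i)` up to a central factor
  have h1 : ∀ i, ∃ f : L, (∀ x, f * x = x * f) ∧ γ (V i) = f * (zp Z (s i) * V (σ i)) := by
    intro i
    have h2 : π (γ (V i)) = π (zp Z (s i) * V (σ i)) := by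
      rw [h i, map_mul, Λ.π_zp, Λ.πV]; rfl
    rcases eq_or hd h2 with h3 | h3
    · exact ⟨1, fun x => by rw [one_mul, mul_one], by rw [h3, one_mul]⟩
    · exact ⟨c, hd.cen, h3⟩
  have hzc : ∀ (a : ZMod 2) (i : Fin 5), V i * zp Z a = zp Z a * V i := by
    intro a i
    rcases zmod2_cases a with rfl | rfl
    · rw [zp_zero, one_mul, mul_one]
    · rw [zp_one]; exact Λ.Z_comm_V hd D i
  have hzz : ∀ (a b : ZMod 2), zp Z a * zp Z b = zp Z b * zp Z a := by
    intro a b
    rw [← zp_add Z Λ.ZZ, ← zp_add Z Λ.ZZ, add_comm]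
  have hzZ : ∀ a : ZMod 2, zp Z a * Z = Z * zp Z a := by
    intro a
    rcases zmod2_cases a with rfl | rfl
    · rw [zp_zero, one_mul, mul_one]
    · rw [zp_one]
  have hγZ : γ Z = Z := by
    obtain ⟨f, hf, hf'⟩ := h1 0
    obtain ⟨g, hg, hg'⟩ := h1 1
    have h2 : Z = V 0 * V 1 * (V 0)⁻¹ * (V 1)⁻¹ := by
      rw [Λ.Vac 0 1 (by decide)]; group
    have h3 := congrArg γ (Λ.Vac 0 1 (by decide))
    rw [map_mul, map_mul, map_mul, hf', hg'] at h3
    -- both sides are `f g z^(s0+s1) V V`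
    have e1 : f * (zp Z (s 0) * V (σ 0)) * (g * (zp Z (s 1) * V (σ 1))) =
        f * g * (zp Z (s 0) * zp Z (s 1)) * (V (σ 0) * V (σ 1)) := by
      calc f * (zp Z (s 0) * V (σ 0)) * (g * (zp Z (s 1) * V (σ 1)))
          = f * ((zp Z (s 0) * V (σ 0)) * g) * (zp Z (s 1) * V (σ 1)) := by group
        _ = f * (g * (zp Z (s 0) * V (σ 0))) * (zp Z (s 1) * V (σ 1)) := by rw [hg]
        _ = f * g * zp Z (s 0) * (V (σ 0) * zp Z (s 1)) * V (σ 1) := by group
        _ = f * g * zp Z (s 0) * (zp Z (s 1) * V (σ 0)) * V (σ 1) := by rw [hzc]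
        _ = _ := by group
    have e2 : g * (zp Z (s 1) * V (σ 1)) * (f * (zp Z (s 0) * V (σ 0))) =
        f * g * (zp Z (s 0) * zp Z (s 1)) * (V (σ 1) * V (σ 0)) := by
      calc g * (zp Z (s 1) * V (σ 1)) * (f * (zp Z (s 0) * V (σ 0)))
          = g * ((zp Z (s 1) * V (σ 1)) * f) * (zp Z (s 0) * V (σ 0)) := by group
        _ = g * (f * (zp Z (s 1) * V (σ 1))) * (zp Z (s 0) * V (σ 0)) := by rw [hf]
        _ = (g * f) * zp Z (s 1) * (V (σ 1) * zp Z (s 0)) * V (σ 0) := by group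
        _ = (f * g) * zp Z (s 1) * (zp Z (s 0) * V (σ 1)) * V (σ 0) := by rw [hzc, hf g]
        _ = (f * g) * (zp Z (s 1) * zp Z (s 0)) * (V (σ 1) * V (σ 0)) := by group
        _ = _ := by rw [hzz]
    rw [e1, e2] at h3
    have h4 : σ 0 ≠ σ 1 := fun h => absurd (σ.injective h) (by decide)
    rw [Λ.Vac _ _ h4] at h3
    have h5 : f * g * (zp Z (s 0) * zp Z (s 1)) * (Z * (V (σ 1) * V (σ 0))) =
        Z * (f * g * (zp Z (s 0) * zp Z (s 1)) * (V (σ 1) * V (σ 0))) := by
      calc f * g * (zp Z (s 0) * zp Z (s 1)) * (Z * (V (σ 1) * V (σ 0)))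
          = f * g * (zp Z (s 0) * (zp Z (s 1) * Z)) * (V (σ 1) * V (σ 0)) := by group
        _ = f * g * (zp Z (s 0) * (Z * zp Z (s 1))) * (V (σ 1) * V (σ 0)) := by rw [hzZ]
        _ = f * g * ((zp Z (s 0) * Z) * zp Z (s 1)) * (V (σ 1) * V (σ 0)) := by group
        _ = f * g * ((Z * zp Z (s 0)) * zp Z (s 1)) * (V (σ 1) * V (σ 0)) := by rw [hzZ]
        _ = f * (g * Z) * (zp Z (s 0) * zp Z (s 1)) * (V (σ 1) * V (σ 0)) := by group
        _ = f * (Z * g) * (zp Z (s 0) * zp Z (s 1)) * (V (σ 1) * V (σ 0)) := by rw [hg]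
        _ = (f * Z) * g * (zp Z (s 0) * zp Z (s 1)) * (V (σ 1) * V (σ 0)) := by group
        _ = (Z * f) * g * (zp Z (s 0) * zp Z (s 1)) * (V (σ 1) * V (σ 0)) := by rw [hf]
        _ = _ := by group
    rw [h5] at h3
    exact (mul_right_cancel h3).symm
  refine ⟨hγZ, fun i => ?_⟩
  have h2 : γ (V i) = zp Z (s i) * V (σ i) := by
    apply uniq hd D.perfect Λ.πZ
    · obtain ⟨g, hg⟩ := Λ.Vcls i
      exact ⟨γ g, by rw [← hg, map_mul, map_mul, map_inv, hγZ]⟩
    · exact Λ.cls_zp _ _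
    · rw [h i, map_mul, Λ.π_zp, Λ.πV]; rfl
  rw [W, W, map_mul, hγe, h2]
  calc e * (zp Z (s i) * V (σ i)) = (e * zp Z (s i)) * V (σ i) := by group
    _ = (zp Z (s i) * e) * V (σ i) := by rw [Λ.e_comm hd]
    _ = _ := by group


/-! ### The lifts of the conjugates of `u` -/

/-- the preimage of `C(t)` -/
def Pre (π : L →* X) (t : X) : Subgroup L := (centralizer ({t} : Set X)).comap π

theorem mem_Pre {g : L} : g ∈ Pre π t ↔ π g * t = t * π g := mem_cent

theorem c_mem_Pre (hd : Dbl π c) : c ∈ Pre π t := by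
  rw [mem_Pre, (hd.ker c).2 (Or.inr rfl), one_mul, mul_one]

theorem index_Pre [Finite X] (hd : Dbl π c) (D : Dat t u Q v ρ) : (Pre π t).index = 315 := by
  rw [Pre, index_comap_of_surjective _ hd.surj, D.index]

/-- the action of the preimage of `C(t)` -/
theorem Lift.act_conj (Λ : Lift π c t v Z e V) (hd : Dbl π c) (D : Dat t u Q v ρ) {g : L}
    (hg : π g * t = t * π g) (i : Fin 5) :
    g * W e V i * g⁻¹ = zp Z ((ρ ⟨π g, mem_cent.2 hg⟩).s i) * W e V ((ρ ⟨π g, mem_cent.2 hg⟩).σ i) := by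
  refine (Λ.act hd D (MulAut.conj g) ?_ (ρ ⟨π g, mem_cent.2 hg⟩).σ (ρ ⟨π g, mem_cent.2 hg⟩).s ?_).2 i
  · show g * c * g⁻¹ = c
    rw [← hd.cen g, mul_inv_cancel_right]
  · intro i
    rw [← D.M.conj]
    show π (g * V i * g⁻¹) = _
    rw [map_mul, map_mul, map_inv, Λ.πV]
    rfl

theorem Lift.Z_mem (Λ : Lift π c t v Z e V) (hd : Dbl π c) : Z ∈ closure (Set.range (W e V)) := by
  have h1 : Z = W e V 0 * W e V 1 * (W e V 0)⁻¹ * (W e V 1)⁻¹ := by
    rw [Λ.Wac hd (show (0 : Fin 5) ≠ 1 by decide)]; group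
  have hW : ∀ i, W e V i ∈ closure (Set.range (W e V)) := fun i => subset_closure ⟨i, rfl⟩
  rw [h1]
  exact mul_mem (mul_mem (mul_mem (hW 0) (hW 1)) (inv_mem (hW 0))) (inv_mem (hW 1))

theorem Lift.norm (Λ : Lift π c t v Z e V) (hd : Dbl π c) (D : Dat t u Q v ρ) {g : L}
    (hg : π g * t = t * π g) : ∀ x ∈ closure (Set.range (W e V)), g * x * g⁻¹ ∈ closure (Set.range (W e V)) := by
  intro x hx
  induction hx using closure_induction with
  | mem x hx =>
    obtain ⟨i, rfl⟩ := hx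
    rw [Λ.act_conj hd D hg i]
    exact mul_mem (zp_mem _ Z (Λ.Z_mem hd) _) (subset_closure ⟨_, rfl⟩)
  | one => rw [mul_one, mul_inv_cancel]; exact one_mem _
  | mul x y _ _ ihx ihy =>
    have : g * (x * y) * g⁻¹ = (g * x * g⁻¹) * (g * y * g⁻¹) := by group
    rw [this]; exact mul_mem ihx ihy
  | inv x _ ih =>
    have : g * x⁻¹ * g⁻¹ = (g * x * g⁻¹)⁻¹ := by group
    rw [this]; exact inv_mem ih

theorem Lift.lift_mem (Λ : Lift π c t v Z e V) (hd : Dbl π c) (D : Dat t u Q v ρ) {q : centralizer ({t} : Set X)}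
    (hq : q ∈ Q) : ∃ y ∈ closure (Set.range (W e V)), π y = (q : X) := by
  have h1 : Q ≤ ((closure (Set.range (W e V))).map π).comap (centralizer ({t} : Set X)).subtype := by
    apply Cfsg.Agent.KFacts.QMinus.Q_le D.M
    intro i
    exact ⟨W e V i, subset_closure ⟨i, rfl⟩, Λ.πW hd i⟩
  obtain ⟨y, hy, hy'⟩ := h1 hq
  exact ⟨y, hy, hy'⟩

/-- a Sylow 2-subgroup of the preimage of `C(t)` -/
theorem exists_T [Finite L] [Finite X] (hd : Dbl π c) (D : Dat t u Q v ρ) : ∃ T : Subgroup L, c ∈ T ∧ T ≤ Pre π t ∧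
    IsPGroup 2 T ∧ ¬ 2 ∣ T.index := by
  have hp : Fact (Nat.Prime 2) := ⟨Nat.prime_two⟩
  have h1 : IsPGroup 2 (zpowers (⟨c, c_mem_Pre hd⟩ : Pre π t)) := by
    rw [IsPGroup.iff_card]
    refine ⟨1, ?_⟩
    rw [Nat.card_zpowers, pow_one]
    exact orderOf_eq_prime (by rw [pow_two]; exact Subtype.ext hd.sq) (fun h => hd.ne (congrArg Subtype.val h))
  obtain ⟨S, hS⟩ := h1.exists_le_sylow
  refine ⟨(S : Subgroup (Pre π t)).map (Pre π t).subtype, ⟨⟨c, c_mem_Pre hd⟩, hS (mem_zpowers _), rfl⟩,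
    map_subtype_le _, S.isPGroup'.map _, ?_⟩
  rw [index_map_subtype]
  intro h
  rcases (Nat.Prime.dvd_mul Nat.prime_two).1 h with h | h
  · exact S.not_dvd_index h
  · rw [index_Pre hd D] at h
    omega

/-- the lifts of the conjugates of `u` have square `c` -/
theorem sq_u [Finite L] [Finite X] (hd : Dbl π c) (D : Dat t u Q v ρ) {x : L} (hx : IsConj u (π x)) :
    x * x = c := by
  by_contra hne
  obtain ⟨g, hg⟩ := isConj_iff.1 hx
  have hxx : x * x = 1 := by
    refine (sq_or hd ?_).resolve_right hne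
    rw [← hg]
    calc g * u * g⁻¹ * (g * u * g⁻¹) = g * (u * u) * g⁻¹ := by group
      _ = 1 := by rw [D.uu]; group
  -- all lifts of conjugates of `u` are involutions
  have hall : ∀ y : L, IsConj u (π y) → y * y = 1 := by
    intro y hy
    obtain ⟨k, hk⟩ := isConj_iff.1 (hx.symm.trans hy)
    rw [sq_conj hd k hk ?_, hxx]
    rw [← map_mul, hxx, map_one]
  obtain ⟨Z, e, V, Λ⟩ := exists_lift hd D
  obtain ⟨T, hcT, hTP, hTp, hTi⟩ := exists_T hd D
  refine false_of_squares hd.toCtr hcT hTi (Q₁ := closure (Set.range (W e V)) ⊓ T) inf_le_right ?_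
    (fun h => Λ.c_notMem hd D h.1)
  intro x hx
  refine ⟨?_, mul_mem hx hx⟩
  have hxt := mem_Pre.1 (hTP hx)
  set k : centralizer ({t} : Set X) := ⟨π x, mem_cent.2 hxt⟩ with hk
  have hs : Equiv.Perm.sign (ρ k).σ = 1 := ((D.M.range (ρ k)).1 ⟨k, rfl⟩).1
  have hσ : (ρ k).σ * (ρ k).σ = 1 := by
    obtain ⟨n, hn⟩ := hTp ⟨x, hx⟩
    have hn' : x ^ (2 ^ n) = 1 := congrArg Subtype.val hn
    have hk1 : k ^ (2 ^ n) = 1 := by
      apply Subtype.ext
      rw [SubmonoidClass.coe_pow]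
      show π x ^ (2 ^ n) = 1
      rw [← map_pow, hn', map_one]
    apply perm_two hs (n := n)
    have h1 : ∀ m : ℕ, (ρ k ^ m).σ = (ρ k).σ ^ m := by
      intro m
      induction m with
      | zero => rw [pow_zero, pow_zero]; rfl
      | succ m ih => rw [pow_succ, pow_succ, mul_σ, ih]
    rw [← h1, ← map_pow, hk1, map_one]; rfl
  obtain ⟨w, hw2, hwσ, hw3⟩ : ∃ w : centralizer ({t} : Set X), w * w = 1 ∧ (ρ w).σ = (ρ k).σ ∧
      (w = 1 ∨ w ∉ Q) := by
    by_cases h1 : (ρ k).σ = 1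
    · exact ⟨1, one_mul _, by rw [h1, map_one]; rfl, Or.inl rfl⟩
    · obtain ⟨w, hw⟩ := (D.M.range ⟨(ρ k).σ, fun _ => 0⟩).2 ⟨hs, by simp⟩
      refine ⟨w, sq_of_rho_sq D.M (u := ⟨u, D.u_mem⟩) (Subtype.ext D.uu) D.u_notMem ?_ ?_, by rw [hw], Or.inr ?_⟩
      · rw [hw]
        apply SP.ext
        · rw [mul_σ, hσ]; rfl
        · funext i
          rw [mul_s]
          show (0 : ZMod 2) + 0 = 0
          rw [add_zero]
      · rw [hw]; exact h1
      · rw [D.M.mem_Q, hw]; exact h1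
  obtain ⟨U, hU⟩ : ∃ U : L, π U = (w : X) ∧ U * U = 1 := by
    rcases hw3 with h | h
    · exact ⟨1, by rw [h, map_one]; rfl, one_mul _⟩
    · obtain ⟨U, hU⟩ := hd.surj (w : X)
      exact ⟨U, hU, hall U (by rw [hU]; exact D.isConj_outer hw2 h)⟩
  obtain ⟨hU, hU2⟩ := hU
  have hUt : π U * t = t * π U := by rw [hU]; exact mem_cent.1 w.2
  have hkw : k * w⁻¹ ∈ Q := by
    rw [D.M.mem_Q, map_mul, map_inv, mul_σ, inv_σ, hwσ, mul_inv_cancel]
  obtain ⟨y', hy', hπy⟩ := Λ.lift_mem hd D hkw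
  have hxy : π (x * U⁻¹) = π y' := by
    rw [hπy, map_mul, map_inv, hU]; rfl
  have hUi : U⁻¹ = U := inv_eq_of_mul_eq_one_left hU2
  have e1 : ∀ f : L, (∀ y, y * f = f * y) → f * f = 1 → x * U⁻¹ = f * y' →
      x * x ∈ closure (Set.range (W e V)) := by
    intro f hf hff h
    have h1 : x = f * y' * U := by rw [← h]; group
    have h2 : x * x = y' * (U * y' * U⁻¹) := by
      rw [h1]
      calc f * y' * U * (f * y' * U) = f * y' * (U * f) * y' * U := by group
        _ = f * y' * (f * U) * y' * U := by rw [hf]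
        _ = f * (y' * f) * U * y' * U := by group
        _ = f * (f * y') * U * y' * U := by rw [hf]
        _ = (f * f) * (y' * (U * y' * U)) := by group
        _ = _ := by rw [hff, one_mul, hUi]
    rw [h2]
    exact mul_mem hy' (Λ.norm hd D hUt y' hy')
  rcases eq_or hd hxy with h | h
  · exact e1 1 (fun y => by rw [one_mul, mul_one]) (one_mul _) (by rw [one_mul]; exact h)
  · exact e1 c (fun y => (hd.cen y).symm) hd.sq h

end Cfsg.Agent.OddHalf.D9.J2.Cover

end

-- merged: Cfsg.Agent.OddHalf.D9.J2.Facts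
section

/-!
# Facts on the double cover of the Hall–Janko group (helper341)

`KF c N`: the list of facts on `K` and its central involution `c` used in `Kill.lean`.
`kf`: they hold for the double cover of a group of Hall–Janko type, with `N = 64`.
-/

set_option autoImplicit false
set_option linter.style.haveILetI false

namespace Cfsg.Agent.OddHalf.D9.J2.Facts

open Subgroup Cfsg.Agent.KFacts.MulTwo Cfsg.Agent.KFacts.MulDef Cfsg.Agent.KFacts.MulSpor.Class
open Cfsg.Agent.J2Type.Model Cfsg.Agent.J2Type.SPFacts Cfsg.Agent.J2Type.CStruct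
open Cfsg.Agent.J3Type.OneClass Cfsg.Agent.J2Type.Base Cfsg.Agent.KFacts.J2.Basic
open Cfsg.Agent.OddHalf.D9.J2.Cover
open scoped commutatorElement

/-- The facts on `K` and its central involution `c`. -/
structure KF {L : Type*} [Group L] (c : L) (N : ℕ) : Prop where
  ne : c ≠ 1
  sq : c * c = 1
  cen : ∀ x, c * x = x * c
  perf : commutator L = ⊤
  /-- noncentral involutions: `c` lies in a perfect subgroup `Y` of the centraliser and has many square roots in `Y` -/
  inv1 : ∀ e : L, e * e = 1 → e ≠ 1 → e ≠ c → ∃ Y : Subgroup L, ⁅Y, Y⁆ = Y ∧ (∀ y ∈ Y, y * e = e * y) ∧ c ∈ Y ∧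
    N < Nat.card {x : L // x ∈ Y ∧ x * x = c}
  /-- noncentral involutions have few square roots -/
  inv2 : ∀ e : L, e * e = 1 → e ≠ 1 → e ≠ c → Nat.card {x : L // x * x = e} ≤ N
  /-- square roots of `c` -/
  four : ∀ w : L, w * w = c → ∃ Y : Subgroup L, ⁅Y, Y⁆ = Y ∧ (∀ y ∈ Y, y * w = w * y) ∧
    ∃ x ∈ Y, x ≠ 1 ∧ ∃ k, k * w * k⁻¹ = w * x
  /-- `Out` has exponent 2 -/
  aut_sq : ∀ α : MulAut L, α c = c → ∃ k, α * α = MulAut.conj k
  /-- outer automorphisms of order 2 -/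
  aut_out : ∀ α : MulAut L, α c = c → α * α = 1 → (∀ k, α ≠ MulAut.conj k) →
    ∃ y w, α y = y ∧ y * y ≠ 1 ∧ α w = y * y * w

variable {L X : Type*} [Group L] [Group X] {π : L →* X} {c : L} {t u : X}
  {Q : Subgroup (centralizer ({t} : Set X))} {v : Fin 5 → centralizer ({t} : Set X)}
  {ρ : centralizer ({t} : Set X) →* SP}

/-! ### Induced automorphisms -/

theorem exists_bar (hd : Dbl π c) (α : MulAut L) (hα : α c = c) : ∃ β : MulAut X, ∀ x, β (π x) = π (α x) := by
  let f : L →* X := π.comp α.toMonoidHom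
  have hf : Function.Surjective f := hd.surj.comp α.surjective
  have hk : π.ker = f.ker := by
    ext x
    rw [MonoidHom.mem_ker, MonoidHom.mem_ker]
    show π x = 1 ↔ π (α x) = 1
    rw [hd.ker, hd.ker]
    constructor
    · rintro (h | h)
      · left; rw [h, map_one]
      · right; rw [h, hα]
    · rintro (h | h)
      · left; exact (map_eq_one_iff α α.injective).1 h
      · right
        apply α.injective
        rw [h, hα]
  refine ⟨(QuotientGroup.quotientKerEquivOfSurjective π hd.surj).symm.trans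
    ((QuotientGroup.quotientMulEquivOfEq hk).trans (QuotientGroup.quotientKerEquivOfSurjective f hf)), ?_⟩
  intro x
  have h1 : (QuotientGroup.quotientKerEquivOfSurjective π hd.surj).symm (π x) = QuotientGroup.mk x := by
    rw [MulEquiv.symm_apply_eq]; rfl
  show (QuotientGroup.quotientKerEquivOfSurjective f hf) ((QuotientGroup.quotientMulEquivOfEq hk)
    ((QuotientGroup.quotientKerEquivOfSurjective π hd.surj).symm (π x))) = _
  rw [h1]
  rfl

theorem eq_one_of_bar (hd : Dbl π c) (γ : MulAut L) (h : ∀ x, π (γ x) = π x) : γ = 1 := by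
  let N : Subgroup L :=
    { carrier := {x | γ x = x}
      one_mem' := map_one γ
      mul_mem' := fun {a b} ha hb => by
        show γ (a * b) = a * b
        rw [map_mul, show γ a = a from ha, show γ b = b from hb]
      inv_mem' := fun {a} ha => by
        show γ a⁻¹ = a⁻¹
        rw [map_inv, show γ a = a from ha] }
  have hN : N = ⊤ := by
    rw [eq_top_iff, ← hd.perf, _root_.commutator_def, Subgroup.commutator_le]
    intro a _ b _
    have key : ∀ x, ∃ f : L, (∀ y, f * y = y * f) ∧ γ x = f * x := by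
      intro x
      rcases eq_or hd (h x) with h1 | h1
      · exact ⟨1, fun y => by rw [one_mul, mul_one], by rw [h1, one_mul]⟩
      · exact ⟨c, hd.cen, h1⟩
    obtain ⟨f, hf, hf'⟩ := key a
    obtain ⟨g, hg, hg'⟩ := key b
    show γ ⁅a, b⁆ = ⁅a, b⁆
    rw [map_commutatorElement, hf', hg', commutatorElement_def, commutatorElement_def]
    calc f * a * (g * b) * (f * a)⁻¹ * (g * b)⁻¹ = f * (a * g) * b * a⁻¹ * f⁻¹ * b⁻¹ * g⁻¹ := by group
      _ = f * (g * a) * b * a⁻¹ * f⁻¹ * b⁻¹ * g⁻¹ := by rw [hg a]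
      _ = (f * (g * a * b * a⁻¹)) * f⁻¹ * b⁻¹ * g⁻¹ := by group
      _ = ((g * a * b * a⁻¹) * f) * f⁻¹ * b⁻¹ * g⁻¹ := by rw [hf]
      _ = (g * (a * b * a⁻¹ * b⁻¹)) * g⁻¹ := by group
      _ = ((a * b * a⁻¹ * b⁻¹) * g) * g⁻¹ := by rw [hg]
      _ = _ := by group
  ext x
  have : x ∈ N := by rw [hN]; trivial
  exact this

/-- an automorphism inducing an inner automorphism is inner -/
theorem inner_of_bar (hd : Dbl π c) (α : MulAut L) (k : L) (h : ∀ x, π (α x) = π k * π x * (π k)⁻¹) :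
    α = MulAut.conj k := by
  have h1 : (MulAut.conj k)⁻¹ * α = 1 := by
    apply eq_one_of_bar hd
    intro x
    rw [Cfsg.Agent.KFacts.OutQ.conj_inv_mul_apply, map_mul, map_mul, map_inv, h]
    group
  exact (inv_mul_eq_one.1 h1).symm

/-! ### Perfect subgroups -/

theorem perfect_commutator (hd : Dbl π c) {M : Subgroup L} (hM : ⁅M.map π, M.map π⁆ = M.map π) :
    ⁅⁅M, M⁆, ⁅M, M⁆⁆ = ⁅M, M⁆ ∧ (⁅M, M⁆ : Subgroup L).map π = M.map π := by
  have h1 : (⁅M, M⁆ : Subgroup L).map π = M.map π := by rw [map_commutator, hM]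
  refine ⟨le_antisymm (commutator_le_self _) ?_, h1⟩
  rw [commutator_le (H₁ := M)]
  intro a ha b hb
  have key : ∀ x ∈ M, ∃ f y : L, (∀ w, f * w = w * f) ∧ y ∈ (⁅M, M⁆ : Subgroup L) ∧ x = f * y := by
    intro x hx
    have h2 : π x ∈ (⁅M, M⁆ : Subgroup L).map π := by rw [h1]; exact mem_map_of_mem π hx
    obtain ⟨y, hy, hyx⟩ := h2
    rcases eq_or hd hyx.symm with h | h
    · exact ⟨1, y, fun w => by rw [one_mul, mul_one], hy, by rw [h, one_mul]⟩
    · exact ⟨c, y, hd.cen, hy, h⟩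
  obtain ⟨f, a', hf, ha', rfl⟩ := key a ha
  obtain ⟨g, b', hg, hb', rfl⟩ := key b hb
  have h2 : ⁅f * a', g * b'⁆ = ⁅a', b'⁆ := by
    rw [commutatorElement_def, commutatorElement_def]
    calc f * a' * (g * b') * (f * a')⁻¹ * (g * b')⁻¹ = f * (a' * g) * b' * a'⁻¹ * f⁻¹ * b'⁻¹ * g⁻¹ := by group
      _ = f * (g * a') * b' * a'⁻¹ * f⁻¹ * b'⁻¹ * g⁻¹ := by rw [hg a']
      _ = (f * (g * a' * b' * a'⁻¹)) * f⁻¹ * b'⁻¹ * g⁻¹ := by group
      _ = ((g * a' * b' * a'⁻¹) * f) * f⁻¹ * b'⁻¹ * g⁻¹ := by rw [hf]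
      _ = (g * (a' * b' * a'⁻¹ * b'⁻¹)) * g⁻¹ := by group
      _ = ((a' * b' * a'⁻¹ * b'⁻¹) * g) * g⁻¹ := by rw [hg]
      _ = _ := by group
  rw [h2]
  exact commutator_mem_commutator ha' hb'

theorem map_Pre (hd : Dbl π c) : (Pre π t).map π = centralizer ({t} : Set X) :=
  map_comap_eq_self_of_surjective hd.surj _

theorem perf_C (D : Dat t u Q v ρ) [Finite X] :
    ⁅centralizer ({t} : Set X), centralizer ({t} : Set X)⁆ = centralizer ({t} : Set X) :=
  (Cfsg.Agent.KFacts.QMinus.sheet D.cardC D.M).perf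

theorem perf_Pre [Finite L] [Finite X] (hd : Dbl π c) (D : Dat t u Q v ρ) : ⁅Pre π t, Pre π t⁆ = Pre π t := by
  have hM : ⁅(Pre π t).map π, (Pre π t).map π⁆ = (Pre π t).map π := by rw [map_Pre hd, perf_C D]
  obtain ⟨-, h1⟩ := perfect_commutator hd hM
  have hc : c ∈ ⁅Pre π t, Pre π t⁆ := by
    have h2 := hd.toCtr.hom_eq_one (c_mem_Pre hd) (by rw [index_Pre hd D]; omega)
      (Abelianization.of : Pre π t →* Abelianization (Pre π t))
    have h3 : (⟨c, c_mem_Pre hd⟩ : Pre π t) ∈ commutator (Pre π t) := by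
      rw [← Abelianization.ker_of, MonoidHom.mem_ker]
      exact h2
    have h4 : c ∈ (commutator (Pre π t)).map (Pre π t).subtype := ⟨_, h3, rfl⟩
    rwa [_root_.commutator_def, map_commutator, ← MonoidHom.range_eq_map, range_subtype] at h4
  refine le_antisymm (commutator_le_self _) ?_
  intro x hx
  have h2 : π x ∈ (⁅Pre π t, Pre π t⁆ : Subgroup L).map π := by rw [h1]; exact mem_map_of_mem π hx
  obtain ⟨y, hy, hyx⟩ := h2
  rcases eq_or hd hyx.symm with h | h
  · rw [h]; exact hy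
  · rw [h]; exact mul_mem hc hy

theorem perf_map {Y : Subgroup L} (h : ⁅Y, Y⁆ = Y) (g : L) :
    ⁅Y.map (MulAut.conj g).toMonoidHom, Y.map (MulAut.conj g).toMonoidHom⁆ = Y.map (MulAut.conj g).toMonoidHom := by
  rw [← map_commutator, h]

/-! ### Involutions -/

theorem not_one_or_c (hd : Dbl π c) {e : L} (he1 : e ≠ 1) (hec : e ≠ c) : π e ≠ 1 := fun h =>
  ((hd.ker e).1 h).elim he1 hec

/-- a noncentral involution is a lift of a conjugate of `t` -/
theorem isConj_of_inv [Finite L] [Finite X] (hd : Dbl π c) (D : Dat t u Q v ρ) {e : L} (he : e * e = 1)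
    (he1 : e ≠ 1) (hec : e ≠ c) : IsConj t (π e) := by
  have h1 : orderOf (π e) = 2 := orderOf_two (by rw [← map_mul, he, map_one]) (not_one_or_c hd he1 hec)
  rcases D.F.cover _ h1 with h | h
  · exact h
  · exfalso
    have := sq_u hd D h
    rw [he] at this
    exact hd.ne this.symm

theorem card_ker (hd : Dbl π c) : Nat.card π.ker = 2 := by
  have h1 : (π.ker : Set L) = {1, c} := by
    ext x
    exact hd.ker x
  have h2 : Nat.card π.ker = (π.ker : Set L).ncard := rfl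
  rw [h2, h1, Set.ncard_pair hd.ne.symm]

theorem card_L [Finite L] [Finite X] (hd : Dbl π c) (D : Dat t u Q v ρ) : Nat.card L = 604800 * 2 := by
  rw [card_eq_card_quotient_mul_card_subgroup π.ker, card_ker hd,
    Nat.card_congr (QuotientGroup.quotientKerEquivOfSurjective π hd.surj).toEquiv, D.card]

theorem card_preQ [Finite L] [Finite X] (hd : Dbl π c) (D : Dat t u Q v ρ) :
    Nat.card ((Q.map (centralizer ({t} : Set X)).subtype).comap π) = 64 := by
  have h1 := ((Q.map (centralizer ({t} : Set X)).subtype).comap π).card_mul_index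
  have h2 := (Q.map (centralizer ({t} : Set X)).subtype).card_mul_index
  have h3 : Nat.card (Q.map (centralizer ({t} : Set X)).subtype) = 32 := by
    rw [card_map_of_injective (centralizer ({t} : Set X)).subtype_injective, D.cardQ]
  rw [index_comap_of_surjective _ hd.surj, card_L hd D] at h1
  rw [h3, D.card] at h2
  have h4 : (Q.map (centralizer ({t} : Set X)).subtype).index = 18900 := by omega
  rw [h4] at h1
  omega

/-- square roots of `t` lie in `Q` -/
theorem mem_Q_of_sq (D : Dat t u Q v ρ) {y : X} (hy : y * y = t) :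
    y ∈ Q.map (centralizer ({t} : Set X)).subtype := by
  have hyc : y * t = t * y := by rw [← hy]; group
  set w : centralizer ({t} : Set X) := ⟨y, mem_cent.2 hyc⟩ with hw
  have h1 : w * w = zc t := Subtype.ext hy
  have h2 : ρ w * ρ w = 1 := by rw [← map_mul, h1, rho_z D.M]
  refine ⟨w, ?_, rfl⟩
  show w ∈ Q
  rw [D.M.mem_Q]
  by_contra hσ
  have h3 := sq_of_rho_sq D.M (u := ⟨u, D.u_mem⟩) (Subtype.ext D.uu) D.u_notMem h2 hσ
  rw [h1] at h3
  exact D.t_ne (congrArg Subtype.val h3)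

theorem inv2 [Finite L] [Finite X] (hd : Dbl π c) (D : Dat t u Q v ρ) {e : L} (he : e * e = 1)
    (he1 : e ≠ 1) (hec : e ≠ c) : Nat.card {x : L // x * x = e} ≤ 64 := by
  obtain ⟨g, hg⟩ := isConj_iff.1 (isConj_of_inv hd D he he1 hec)
  obtain ⟨g, rfl⟩ := hd.surj g
  rw [← card_preQ hd D]
  refine Nat.card_le_card_of_injective (fun x => ⟨g⁻¹ * x.1 * g, ?_⟩) ?_
  · apply mem_Q_of_sq D
    show π (g⁻¹ * x.1 * g) * π (g⁻¹ * x.1 * g) = t
    have h1 : g⁻¹ * x.1 * g * (g⁻¹ * x.1 * g) = g⁻¹ * e * g := by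
      calc g⁻¹ * x.1 * g * (g⁻¹ * x.1 * g) = g⁻¹ * (x.1 * x.1) * g := by group
        _ = _ := by rw [x.2]
    rw [← map_mul, h1, map_mul, map_mul, map_inv, ← hg]
    group
  · intro x y h
    have h1 : g⁻¹ * x.1 * g = g⁻¹ * y.1 * g := congrArg Subtype.val h
    exact Subtype.ext (mul_left_cancel (mul_right_cancel h1))

theorem inv1 [Finite L] [Finite X] (hd : Dbl π c) (D : Dat t u Q v ρ) {e : L} (he : e * e = 1)
    (he1 : e ≠ 1) (hec : e ≠ c) : ∃ Y : Subgroup L, ⁅Y, Y⁆ = Y ∧ (∀ y ∈ Y, y * e = e * y) ∧ c ∈ Y ∧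
    64 < Nat.card {x : L // x ∈ Y ∧ x * x = c} := by
  obtain ⟨g, hg⟩ := isConj_iff.1 (isConj_of_inv hd D he he1 hec)
  obtain ⟨g, rfl⟩ := hd.surj g
  have hgc : g * c * g⁻¹ = c := by rw [← hd.cen g, mul_inv_cancel_right]
  refine ⟨(Pre π t).map (MulAut.conj g).toMonoidHom, perf_map (perf_Pre hd D) g, ?_, ⟨c, c_mem_Pre hd, hgc⟩, ?_⟩
  · rintro _ ⟨y, hy, rfl⟩
    show g * y * g⁻¹ * e = e * (g * y * g⁻¹)
    have h1 : π (g⁻¹ * e * g) = t := by rw [map_mul, map_mul, map_inv, ← hg]; group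
    have h2 := comm_of hd D h1 (mem_Pre.1 hy)
    calc g * y * g⁻¹ * e = g * (y * (g⁻¹ * e * g)) * g⁻¹ := by group
      _ = g * (g⁻¹ * e * g * y) * g⁻¹ := by rw [h2]
      _ = e * (g * y * g⁻¹) := by group
  · have h3 : 120 ≤ Nat.card {x : L // x ∈ (Pre π t).map (MulAut.conj g).toMonoidHom ∧ x * x = c} := by
      rw [← D.F.card120]
      have key : ∀ y : {y : X // IsConj u y ∧ y * t = t * y}, ∃ x : L, π x = y.1 := fun y => hd.surj _
      choose f hf using key
      refine Nat.card_le_card_of_injective (fun y => ⟨g * f y * g⁻¹, ⟨f y, ?_, rfl⟩, ?_⟩) ?_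
      · show f y ∈ Pre π t
        rw [mem_Pre, hf]
        exact y.2.2
      · calc g * f y * g⁻¹ * (g * f y * g⁻¹) = g * (f y * f y) * g⁻¹ := by group
          _ = c := by rw [sq_u hd D (x := f y) (by rw [hf]; exact y.2.1), hgc]
      · intro y y' h
        have h1 : g * f y * g⁻¹ = g * f y' * g⁻¹ := congrArg Subtype.val h
        have h2 : f y = f y' := mul_left_cancel (mul_right_cancel h1)
        apply Subtype.ext
        rw [← hf y, ← hf y', h2]
    omega


/-! ### Square roots of `c` -/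

theorem perf_A5 {H0 : Subgroup X} (h : Nonempty (H0 ≃* alternatingGroup (Fin 5))) : ⁅H0, H0⁆ = H0 := by
  obtain ⟨e⟩ := h
  have h1 : commutator (alternatingGroup (Fin 5)) = ⊤ := by
    have h2 := commutator_alternatingGroup_eq_self (α := Fin 5) (by simp)
    rw [eq_top_iff]
    intro x _
    have h3 : (x : Equiv.Perm (Fin 5)) ∈ (commutator (alternatingGroup (Fin 5))).map
        (alternatingGroup (Fin 5)).subtype := by
      rw [_root_.commutator_def, map_commutator, ← MonoidHom.range_eq_map, range_subtype, h2]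
      exact x.2
    obtain ⟨y, hy, hyx⟩ := h3
    have : y = x := Subtype.ext hyx
    rw [← this]; exact hy
  have h2 : commutator H0 = ⊤ :=
    commutator_top_of_surj e.symm.toMonoidHom e.symm.surjective h1
  have h3 := congrArg (Subgroup.map H0.subtype) h2
  rw [_root_.commutator_def, map_commutator, ← MonoidHom.range_eq_map, range_subtype] at h3
  exact h3

/-- an element of `K` commuting up to `c` with the elements of `M` commutes with `M'` -/
theorem comm_commutator (hd : Dbl π c) {M : Subgroup L} {w : L} (h : ∀ y ∈ M, y * w = w * y ∨ y * w = c * (w * y)) :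
    ∀ y ∈ (⁅M, M⁆ : Subgroup L), y * w = w * y := by
  have h1 : (⁅M, M⁆ : Subgroup L) ≤ centralizer ({w} : Set L) := by
    rw [commutator_le]
    intro a ha b hb
    rw [mem_centralizer_singleton_iff]
    have h' : ∀ y ∈ M, ∃ e : L, (∀ x, e * x = x * e) ∧ y * w * y⁻¹ = e * w := by
      intro y hy
      rcases h y hy with h2 | h2
      · exact ⟨1, fun x => by rw [one_mul, mul_one], by rw [h2]; group⟩
      · exact ⟨c, hd.cen, by rw [h2]; group⟩
    obtain ⟨e, he, he'⟩ := h' a ha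
    obtain ⟨f, hf, hf'⟩ := h' b hb
    have ha' : a⁻¹ * w * a = e⁻¹ * w := by
      calc a⁻¹ * w * a = a⁻¹ * (e⁻¹ * (e * w)) * a := by group
        _ = a⁻¹ * (e⁻¹ * (a * w * a⁻¹)) * a := by rw [he']
        _ = (e * a)⁻¹ * (a * w) := by group
        _ = (a * e)⁻¹ * (a * w) := by rw [he]
        _ = e⁻¹ * w := by group
    have hb' : b⁻¹ * w * b = f⁻¹ * w := by
      calc b⁻¹ * w * b = b⁻¹ * (f⁻¹ * (f * w)) * b := by group
        _ = b⁻¹ * (f⁻¹ * (b * w * b⁻¹)) * b := by rw [hf']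
        _ = (f * b)⁻¹ * (b * w) := by group
        _ = (b * f)⁻¹ * (b * w) := by rw [hf]
        _ = f⁻¹ * w := by group
    have ci : ∀ x, e⁻¹ * x = x * e⁻¹ := fun x => by
      rw [inv_mul_eq_iff_eq_mul, ← mul_assoc, he, mul_inv_cancel_right]
    have fi : ∀ x, f⁻¹ * x = x * f⁻¹ := fun x => by
      rw [inv_mul_eq_iff_eq_mul, ← mul_assoc, hf, mul_inv_cancel_right]
    have h3 : ⁅a, b⁆ * w * ⁅a, b⁆⁻¹ = w := by
      rw [commutatorElement_def]
      calc a * b * a⁻¹ * b⁻¹ * w * (a * b * a⁻¹ * b⁻¹)⁻¹ = a * b * (a⁻¹ * (b⁻¹ * w * b) * a) * b⁻¹ * a⁻¹ := by group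
        _ = a * b * (a⁻¹ * (f⁻¹ * w) * a) * b⁻¹ * a⁻¹ := by rw [hb']
        _ = a * b * ((a⁻¹ * f⁻¹) * w * a) * b⁻¹ * a⁻¹ := by group
        _ = a * b * ((f⁻¹ * a⁻¹) * w * a) * b⁻¹ * a⁻¹ := by rw [fi]
        _ = a * b * (f⁻¹ * (a⁻¹ * w * a)) * b⁻¹ * a⁻¹ := by group
        _ = a * b * (f⁻¹ * (e⁻¹ * w)) * b⁻¹ * a⁻¹ := by rw [ha']
        _ = a * (b * f⁻¹ * e⁻¹) * w * b⁻¹ * a⁻¹ := by group
        _ = a * (f⁻¹ * b * e⁻¹) * w * b⁻¹ * a⁻¹ := by rw [fi b]
        _ = a * (f⁻¹ * (b * e⁻¹)) * w * b⁻¹ * a⁻¹ := by group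
        _ = a * (f⁻¹ * (e⁻¹ * b)) * w * b⁻¹ * a⁻¹ := by rw [ci b]
        _ = a * (f⁻¹ * e⁻¹) * (b * w * b⁻¹) * a⁻¹ := by group
        _ = a * (f⁻¹ * e⁻¹) * (f * w) * a⁻¹ := by rw [hf']
        _ = a * f⁻¹ * (e⁻¹ * f) * w * a⁻¹ := by group
        _ = a * f⁻¹ * (f * e⁻¹) * w * a⁻¹ := by rw [ci f]
        _ = (a * e⁻¹) * w * a⁻¹ := by group
        _ = (e⁻¹ * a) * w * a⁻¹ := by rw [ci a]
        _ = e⁻¹ * (a * w * a⁻¹) := by group
        _ = e⁻¹ * (e * w) := by rw [he']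
        _ = w := by group
    exact mul_inv_eq_iff_eq_mul.1 h3
  intro y hy
  exact mem_centralizer_singleton_iff.1 (h1 hy)

/-- square roots of `c` -/
theorem four' [Finite L] [Finite X] (hd : Dbl π c) (D : Dat t u Q v ρ) {w : L} (hw : w * w = c) :
    ∃ Y : Subgroup L, ⁅Y, Y⁆ = Y ∧ (∀ y ∈ Y, y * w = w * y) ∧ ∃ x ∈ Y, IsConj t (π x) ∧
      ∃ k, k * w * k⁻¹ = w * x := by
  obtain ⟨f, U, V, H0, FF⟩ := Cfsg.Agent.J2Type.CentU.main D.F
  obtain ⟨-, -, h60, hA5⟩ := Cfsg.Agent.J2Type.Order.order_of_fus D.F FF.str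
  obtain ⟨û, hû⟩ := hd.surj u
  have hûc : û * û = c := sq_u hd D (by rw [hû])
  -- a second involution of `V`
  obtain ⟨b, hbV, hb1, hbu⟩ : ∃ b ∈ V, b ≠ 1 ∧ b ≠ u := by
    by_contra hcon
    push Not at hcon
    have h1 : (V : Set X) ⊆ {1, u} := by
      intro x hx
      by_cases h : x = 1
      · exact Or.inl h
      · exact Or.inr (hcon x hx h)
    have h2 : Nat.card V = (V : Set X).ncard := rfl
    have h3 := Set.ncard_le_ncard h1 (Set.toFinite _)
    have h4 := Set.ncard_insert_le (1 : X) {u}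
    rw [Set.ncard_singleton] at h4
    have h5 := FF.cardV
    omega
  obtain ⟨b', hb'⟩ := hd.surj b
  have hb'c : b' * b' = c := sq_u hd D (by rw [hb']; exact Cfsg.Agent.J2Type.Cent5.isConj_of_mem_V D.F FF hbV hb1)
  have hub : (û * b') * (û * b') = c := by
    apply sq_u hd D
    rw [map_mul, hû, hb']
    apply Cfsg.Agent.J2Type.Cent5.isConj_of_mem_V D.F FF (mul_mem FF.uV hbV)
    intro h
    apply hbu
    calc b = u * u * b := by rw [D.uu, one_mul]
      _ = u * (u * b) := by group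
      _ = u := by rw [h, mul_one]
  -- `b' û b'⁻¹ = c û`
  have hswap : b' * û * b'⁻¹ = c * û := by
    have h1 : û * (b' * û * b'⁻¹) = 1 := by
      calc û * (b' * û * b'⁻¹) = (û * b') * (û * b') * (b' * b')⁻¹ := by group
        _ = 1 := by rw [hub, hb'c, mul_inv_cancel]
    have h2 : û * (c * û) = 1 := by
      calc û * (c * û) = (û * c) * û := by group
        _ = (c * û) * û := by rw [hd.cen]
        _ = c * (û * û) := by group
        _ = 1 := by rw [hûc, hd.sq]
    exact mul_left_cancel (h1.trans h2.symm)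
  -- all square roots of `c` are conjugate to `û`
  have hconj : ∀ w : L, w * w = c → ∃ g, g * û * g⁻¹ = w := by
    intro w hw
    have h1 : orderOf (π w) = 2 := by
      refine orderOf_two (by rw [← map_mul, hw]; exact (hd.ker c).2 (Or.inr rfl)) ?_
      intro h
      rcases (hd.ker w).1 h with h | h
      · rw [h, one_mul] at hw; exact hd.ne hw.symm
      · rw [h, hd.sq] at hw; exact hd.ne hw.symm
    rcases D.F.cover _ h1 with h | h
    · exfalso
      have := sq_t hd D h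
      rw [hw] at this
      exact hd.ne this
    · obtain ⟨g, hg⟩ := isConj_iff.1 h
      obtain ⟨g, rfl⟩ := hd.surj g
      rcases eq_or hd (x := g * û * g⁻¹) (y := w) (by rw [map_mul, map_mul, map_inv, hû, hg]) with h2 | h2
      · exact ⟨g, h2⟩
      · refine ⟨g * b', ?_⟩
        calc g * b' * û * (g * b')⁻¹ = g * (b' * û * b'⁻¹) * g⁻¹ := by group
          _ = (g * c) * û * g⁻¹ := by rw [hswap]; group
          _ = (c * g) * û * g⁻¹ := by rw [hd.cen]
          _ = c * (g * û * g⁻¹) := by group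
          _ = (c * c) * w := by rw [h2]; group
          _ = w := by rw [hd.sq, one_mul]
  -- the perfect subgroup
  set M : Subgroup L := H0.comap π with hM
  have hMπ : M.map π = H0 := map_comap_eq_self_of_surjective hd.surj _
  obtain ⟨hp1, hp2⟩ := perfect_commutator hd (M := M) (by rw [hMπ]; exact perf_A5 hA5)
  have hcomm : ∀ y ∈ (⁅M, M⁆ : Subgroup L), y * û = û * y := by
    apply comm_commutator hd
    intro y hy
    apply comm_or hd
    rw [hû]
    exact mem_cent.1 (FF.str.le hy)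
  -- a lift of `t`
  obtain ⟨x, hxM, hxt⟩ : ∃ x ∈ (⁅M, M⁆ : Subgroup L), π x = t := by
    have h1 : t ∈ (⁅M, M⁆ : Subgroup L).map π := by
      rw [hp2, hMπ]
      exact FF.U_le FF.zU
    exact h1
  have hxx : x * x = 1 := sq_t hd D (by rw [hxt])
  obtain ⟨k, hk⟩ := hconj (û * x) (by
    calc û * x * (û * x) = û * (x * û) * x := by group
      _ = û * (û * x) * x := by rw [hcomm x hxM]
      _ = (û * û) * (x * x) := by group
      _ = c := by rw [hûc, hxx, mul_one])
  -- the general case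
  obtain ⟨g, rfl⟩ := hconj w hw
  refine ⟨(⁅M, M⁆ : Subgroup L).map (MulAut.conj g).toMonoidHom, perf_map hp1 g, ?_, g * x * g⁻¹, ⟨x, hxM, rfl⟩, ?_,
    g * k * g⁻¹, ?_⟩
  · rintro _ ⟨y, hy, rfl⟩
    show g * y * g⁻¹ * (g * û * g⁻¹) = g * û * g⁻¹ * (g * y * g⁻¹)
    calc g * y * g⁻¹ * (g * û * g⁻¹) = g * (y * û) * g⁻¹ := by group
      _ = g * (û * y) * g⁻¹ := by rw [hcomm y hy]
      _ = _ := by group
  · exact isConj_iff.2 ⟨π g, by rw [map_mul, map_mul, map_inv, hxt]⟩
  · calc g * k * g⁻¹ * (g * û * g⁻¹) * (g * k * g⁻¹)⁻¹ = g * (k * û * k⁻¹) * g⁻¹ := by group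
      _ = g * (û * x) * g⁻¹ := by rw [hk]
      _ = _ := by group

theorem four [Finite L] [Finite X] (hd : Dbl π c) (D : Dat t u Q v ρ) {w : L} (hw : w * w = c) :
    ∃ Y : Subgroup L, ⁅Y, Y⁆ = Y ∧ (∀ y ∈ Y, y * w = w * y) ∧ ∃ x ∈ Y, x ≠ 1 ∧ ∃ k, k * w * k⁻¹ = w * x := by
  obtain ⟨Y, h1, h2, x, hx, hxt, k, hk⟩ := four' hd D hw
  refine ⟨Y, h1, h2, x, hx, ?_, k, hk⟩
  rintro rfl
  rw [map_one] at hxt
  exact D.t_ne (isConj_one_left.1 hxt)

/-! ### Automorphisms -/

theorem aut_sq [Finite X] (hd : Dbl π c) (D : Dat t u Q v ρ) {α : MulAut L} (hα : α c = c) :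
    ∃ k, α * α = MulAut.conj k := by
  obtain ⟨β, hβ⟩ := exists_bar hd α hα
  obtain ⟨k, hk⟩ := D.sq_inner β
  obtain ⟨k, rfl⟩ := hd.surj k
  refine ⟨k, inner_of_bar hd _ k ?_⟩
  intro x
  show π (α (α x)) = _
  rw [← hβ, ← hβ]
  have := congrArg (fun γ : MulAut X => γ (π x)) hk
  exact this

theorem perm_aux : ∀ σ : Equiv.Perm (Fin 5), Equiv.Perm.sign σ = -1 → σ * σ = 1 →
    ∃ i j a b d : Fin 5, i ≠ j ∧ σ i = j ∧ σ j = i ∧ a ≠ b ∧ b ≠ d ∧ a ≠ d ∧ σ a = a ∧ σ b = b ∧ σ d = d := by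
  decide +kernel

theorem three_aux : ∀ x y z : ZMod 2, x = y ∨ y = z ∨ x = z := by decide

/-- outer automorphisms of order 2 -/
theorem aut_out' [Finite L] [Finite X] (hd : Dbl π c) (D : Dat t u Q v ρ) {α : MulAut L} (hα : α c = c)
    (hαα : α * α = 1) (hout : ∀ k, α ≠ MulAut.conj k) :
    ∃ y w, α y = y ∧ IsConj t (π (y * y)) ∧ α w = y * y * w := by
  obtain ⟨β, hβ⟩ := exists_bar hd α hα
  have hααx : ∀ x, α (α x) = x := fun x => by
    have := congrArg (fun γ : MulAut L => γ x) hαα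
    exact this
  have hββ : ∀ x, β (β x) = x := by
    intro x
    obtain ⟨x, rfl⟩ := hd.surj x
    rw [hβ, hβ, hααx]
  -- a fixed conjugate of `t`
  obtain ⟨s, hs, hβs⟩ : ∃ s, IsConj t s ∧ β s = s := by
    classical
    haveI : Fintype {y : X // ∃ k : X, k * t * k⁻¹ = y} := Fintype.ofFinite _
    have hcard : Nat.card {y : X // ∃ k : X, k * t * k⁻¹ = y} = 315 := by
      have h1 := card_conj t
      have h2 : Nat.card {k : X // k * t = t * k} = 1920 := by
        rw [← D.cardC]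
        exact Nat.card_congr (Equiv.subtypeEquivRight fun k => mem_cent.symm)
      rw [h2, D.card] at h1
      omega
    have hcl : ∀ y : X, (∃ k : X, k * t * k⁻¹ = y) ↔ IsConj t y := fun y => isConj_iff.symm
    have hmap : ∀ y : X, (∃ k : X, k * t * k⁻¹ = y) → ∃ k : X, k * t * k⁻¹ = β y := by
      intro y hy
      rw [hcl] at hy ⊢
      exact (D.isConj_aut β).trans (isConj_map β hy)
    let σ : Equiv.Perm {y : X // ∃ k : X, k * t * k⁻¹ = y} :=
      { toFun := fun y => ⟨β y.1, hmap y.1 y.2⟩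
        invFun := fun y => ⟨β y.1, hmap y.1 y.2⟩
        left_inv := fun y => Subtype.ext (hββ y.1)
        right_inv := fun y => Subtype.ext (hββ y.1) }
    haveI : Fact (Nat.Prime 2) := ⟨Nat.prime_two⟩
    obtain ⟨a, ha⟩ := Equiv.Perm.exists_fixed_point_of_prime (p := 2) (n := 1)
      (by rw [← Nat.card_eq_fintype_card, hcard]; omega) (σ := σ) (by
        rw [pow_one, pow_two]
        ext y
        exact hββ y.1)
    exact ⟨a.1, (hcl _).1 a.2, congrArg Subtype.val ha⟩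
  obtain ⟨g, hg⟩ := isConj_iff.1 hs
  obtain ⟨g, rfl⟩ := hd.surj g
  -- `γ = conj g⁻¹ α conj g` fixes `t`
  set γ : MulAut L := (MulAut.conj g)⁻¹ * α * MulAut.conj g with hγ
  have hγx : ∀ x, γ x = g⁻¹ * α (g * x * g⁻¹) * g := by
    intro x
    show (MulAut.conj g)⁻¹ (α (g * x * g⁻¹)) = _
    rw [← map_inv, MulAut.conj_apply, inv_inv]
  have hγc : γ c = c := by
    rw [hγx, ← hd.cen g, mul_inv_cancel_right, hα, mul_assoc, hd.cen g, inv_mul_cancel_left]
  have hγγ : ∀ x, γ (γ x) = x := by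
    intro x
    rw [hγx, hγx]
    have h1 : g * (g⁻¹ * α (g * x * g⁻¹) * g) * g⁻¹ = α (g * x * g⁻¹) := by group
    rw [h1, hααx]; group
  obtain ⟨δ, hδ⟩ := exists_bar hd γ hγc
  have hδt : δ t = t := by
    obtain ⟨τ, hτ⟩ := hd.surj t
    have h1 := hδ τ
    rw [hτ] at h1
    have h2 : π (g * τ * g⁻¹) = s := by rw [map_mul, map_mul, map_inv, hτ, hg]
    rw [h1, hγx, map_mul, map_mul, map_inv, ← hβ, h2, hβs, ← hg]
    group
  have hδδ : ∀ x, δ (δ x) = x := by
    intro x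
    obtain ⟨x, rfl⟩ := hd.surj x
    rw [hδ, hδ, hγγ]
  obtain ⟨σ, s', hσ⟩ := D.exists_act δ hδt
  -- `σ` is odd
  have hodd : Equiv.Perm.sign σ = -1 := by
    rcases Int.units_eq_one_or (Equiv.Perm.sign σ) with h | h
    · exfalso
      obtain ⟨k, hk⟩ := D.inner_of_even δ hδt σ s' hσ h
      obtain ⟨k, rfl⟩ := hd.surj k
      have h1 : γ = MulAut.conj k := by
        apply inner_of_bar hd
        intro x
        rw [← hδ, hk]; rfl
      apply hout (g * k * g⁻¹)
      rw [map_mul, map_mul, ← h1, hγ, map_inv]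
      group
    · exact h
  have hinvol : ∀ i, σ (σ i) = i ∧ s' i + s' (σ i) = 0 := by
    intro i
    have h1 := hδδ (v i)
    rw [hσ i] at h1
    have h2 : δ ((zp (zc t) (s' i) : centralizer ({t} : Set X)) : X) =
        ((zp (zc t) (s' i) : centralizer ({t} : Set X)) : X) := by
      rcases zmod2_cases (s' i) with h | h
      · rw [h, zp_zero]; exact map_one δ
      · rw [h, zp_one]; exact hδt
    have h3 : ((zp (zc t) (s' i) * (zp (zc t) (s' (σ i)) * v (σ (σ i))) : centralizer ({t} : Set X)) : X) = v i := by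
      rw [← h1]
      show ((zp (zc t) (s' i) : centralizer ({t} : Set X)) : X) *
        ((zp (zc t) (s' (σ i)) * v (σ (σ i)) : centralizer ({t} : Set X)) : X) =
        δ (((zp (zc t) (s' i) : centralizer ({t} : Set X)) : X) * v (σ i))
      rw [map_mul, h2, hσ (σ i)]
    have h4 : zp (zc t) (s' i + s' (σ i)) * v (σ (σ i)) = zp (zc t) 0 * v i := by
      rw [zp_zero, one_mul, zp_add (zc t) D.M.z_sq, mul_assoc]
      exact Subtype.ext h3
    have h5 := D.M.v_inj _ _ _ _ h4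
    exact ⟨h5.2, h5.1⟩
  have hσσ : σ * σ = 1 := by
    ext i
    show ((σ (σ i) : Fin 5) : ℕ) = i
    rw [(hinvol i).1]
  obtain ⟨Z, e, V, Λ⟩ := exists_lift hd D
  obtain ⟨hγZ, hact⟩ := Λ.act hd D γ hγc σ s' (by
    intro i
    rw [← hδ, Λ.πV, hσ i])
  have hzc : ∀ (a : ZMod 2) (i : Fin 5), W e V i * zp Z a = zp Z a * W e V i := by
    intro a i
    rcases zmod2_cases a with rfl | rfl
    · rw [zp_zero, one_mul, mul_one]
    · rw [zp_one]; exact Λ.WZ hd D i
  have hpair : ∀ i j, γ (W e V i * W e V j) = zp Z (s' i + s' j) * (W e V (σ i) * W e V (σ j)) := by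
    intro i j
    rw [map_mul, hact i, hact j]
    calc zp Z (s' i) * W e V (σ i) * (zp Z (s' j) * W e V (σ j))
        = zp Z (s' i) * (W e V (σ i) * zp Z (s' j)) * W e V (σ j) := by group
      _ = zp Z (s' i) * (zp Z (s' j) * W e V (σ i)) * W e V (σ j) := by rw [hzc]
      _ = _ := by rw [zp_add Z Λ.ZZ]; group
  obtain ⟨i, j, a, b, d, hij, hi, hj, hab, hbd, had, ha, hb, hd'⟩ := perm_aux σ hodd hσσ
  -- two fixed indices with the same sign
  obtain ⟨k, l, hkl, hk, hl, hskl⟩ : ∃ k l, k ≠ l ∧ σ k = k ∧ σ l = l ∧ s' k = s' l := by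
    rcases three_aux (s' a) (s' b) (s' d) with h | h | h
    · exact ⟨a, b, hab, ha, hb, h⟩
    · exact ⟨b, d, hbd, hb, hd', h⟩
    · exact ⟨a, d, had, ha, hd', h⟩
  have hsij : s' i + s' j = 0 := by rw [← hi]; exact (hinvol i).2
  have hskl' : s' k + s' l = 0 := by rw [hskl]; exact CharTwo.add_self_eq_zero _
  have hsq : ∀ i j, i ≠ j → W e V i * W e V j * (W e V i * W e V j) = Z := by
    intro i j hij
    calc W e V i * W e V j * (W e V i * W e V j) = Z * (W e V j * W e V i) * (W e V i * W e V j) := by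
          rw [← Λ.Wac hd hij]
      _ = Z * (W e V j * (W e V i * W e V i) * W e V j) := by group
      _ = Z := by rw [Λ.WW hd, mul_one, Λ.WW hd, mul_one]
  -- the elements for `γ`
  have hy : γ (W e V k * W e V l) = W e V k * W e V l := by
    rw [hpair, hskl', zp_zero, one_mul, hk, hl]
  have hw : γ (W e V i * W e V j) = Z * (W e V i * W e V j) := by
    rw [hpair, hsij, zp_zero, one_mul, hi, hj, Λ.Wac hd hij.symm]
  -- back to `α`
  have hback : ∀ x y, γ x = y → α (g * x * g⁻¹) = g * y * g⁻¹ := by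
    intro x y h
    rw [← h, hγx]; group
  refine ⟨g * (W e V k * W e V l) * g⁻¹, g * (W e V i * W e V j) * g⁻¹, hback _ _ hy, ?_, ?_⟩
  · have h1 : g * (W e V k * W e V l) * g⁻¹ * (g * (W e V k * W e V l) * g⁻¹) =
        g * (W e V k * W e V l * (W e V k * W e V l)) * g⁻¹ := by group
    rw [h1, hsq k l hkl, map_mul, map_mul, map_inv, Λ.πZ]
    exact isConj_iff.2 ⟨π g, rfl⟩
  · rw [hback _ _ hw, ← hsq k l hkl]
    group

theorem aut_out [Finite L] [Finite X] (hd : Dbl π c) (D : Dat t u Q v ρ) {α : MulAut L} (hα : α c = c)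
    (hαα : α * α = 1) (hout : ∀ k, α ≠ MulAut.conj k) : ∃ y w, α y = y ∧ y * y ≠ 1 ∧ α w = y * y * w := by
  obtain ⟨y, w, h1, h2, h3⟩ := aut_out' hd D hα hαα hout
  refine ⟨y, w, h1, ?_, h3⟩
  intro h
  rw [h, map_one] at h2
  exact D.t_ne (isConj_one_left.1 h2)

/-- **The facts.** -/
theorem kf [Finite L] [Finite X] (hd : Dbl π c) (D : Dat t u Q v ρ) : KF c 64 where
  ne := hd.ne
  sq := hd.sq
  cen := hd.cen
  perf := hd.perf
  inv1 := fun _ he he1 hec => inv1 hd D he he1 hec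
  inv2 := fun _ he he1 hec => inv2 hd D he he1 hec
  four := fun _ hw => four hd D hw
  aut_sq := fun _ hα => aut_sq hd D hα
  aut_out := fun _ h1 h2 h3 => aut_out hd D h1 h2 h3

end Cfsg.Agent.OddHalf.D9.J2.Facts

end

-- merged: Cfsg.Agent.OddHalf.D9.J2.Kill
section

/-!
# D9, `K = 2.J₂`: the end (helper341)

`false_of_kf`: `G` simple, `z` an involution of `K ≤ G`, `K` normal in `C(z)`, all perfect subgroups of `C(z)` in `K`,
`z` the only involution of `C(K)`, `Z(K) = {1, z}`, and `K` has the properties `KF z N`: impossible.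
-/

set_option autoImplicit false

namespace Cfsg.Agent.OddHalf.D9.J2.Kill

open Subgroup Cfsg.Agent.OddHalf.D9.J2.Facts

variable {G : Type*} [Group G]

/-- Conjugation by an element normalising `K`. -/
def conjAut {K : Subgroup G} (h : G) (h1 : ∀ k ∈ K, h * k * h⁻¹ ∈ K) (h2 : ∀ k ∈ K, h⁻¹ * k * h ∈ K) :
    MulAut ↥K where
  toFun x := ⟨h * x * h⁻¹, h1 x x.2⟩
  invFun x := ⟨h⁻¹ * x * h, h2 x x.2⟩
  left_inv x := Subtype.ext (by
    show h⁻¹ * (h * x * h⁻¹) * h = x
    group)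
  right_inv x := Subtype.ext (by
    show h * (h⁻¹ * x * h) * h⁻¹ = x
    group)
  map_mul' x y := Subtype.ext (by
    show h * (x * y) * h⁻¹ = h * x * h⁻¹ * (h * y * h⁻¹)
    group)

/-- `x ∈ K C(K)` -/
def InKR (K : Subgroup G) (x : G) : Prop := ∃ k ∈ K, ∃ r : G, (∀ y ∈ K, r * y = y * r) ∧ x = k * r

/-- the setting -/
structure Setup (z : G) (K : Subgroup G) (hzK : z ∈ K) (N : ℕ) : Prop where
  kf : KF (⟨z, hzK⟩ : K) N
  norm : ∀ h, h * z = z * h → ∀ k ∈ K, h * k * h⁻¹ ∈ K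
  perf : ∀ Y : Subgroup G, ⁅Y, Y⁆ = Y → (∀ y ∈ Y, y * z = z * y) → Y ≤ K
  inv : ∀ r, (∀ k ∈ K, r * k = k * r) → r * r = 1 → r = 1 ∨ r = z
  cen : ∀ k ∈ K, (∀ x ∈ K, k * x = x * k) → k = 1 ∨ k = z

section

variable {z : G} {K : Subgroup G} {hzK : z ∈ K} {N : ℕ}

theorem Setup.z_ne (S : Setup z K hzK N) : z ≠ 1 := fun h => S.kf.ne (Subtype.ext h)

theorem Setup.zz (S : Setup z K hzK N) : z * z = 1 := congrArg Subtype.val S.kf.sq

theorem Setup.zk (S : Setup z K hzK N) {k : G} (hk : k ∈ K) : z * k = k * z :=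
  congrArg Subtype.val (S.kf.cen ⟨k, hk⟩)

theorem Setup.norm' (S : Setup z K hzK N) {h : G} (hh : h * z = z * h) : ∀ k ∈ K, h⁻¹ * k * h ∈ K := by
  intro k hk
  have h1 : h⁻¹ * z = z * h⁻¹ := by
    rw [inv_mul_eq_iff_eq_mul, ← mul_assoc, hh, mul_inv_cancel_right]
  have := S.norm h⁻¹ h1 k hk
  rwa [inv_inv] at this

theorem sq_conj {x y : G} (hx : x * x = 1) (h : IsConj x y) : y * y = 1 := by
  obtain ⟨g, hg⟩ := isConj_iff.1 h
  rw [← hg]
  calc g * x * g⁻¹ * (g * x * g⁻¹) = g * (x * x) * g⁻¹ := by group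
    _ = 1 := by rw [hx]; group

theorem ne_conj {x y : G} (hx : x ≠ 1) (h : IsConj x y) : y ≠ 1 := by
  obtain ⟨g, hg⟩ := isConj_iff.1 h
  rw [← hg]
  exact fun h => hx (conj_eq_one_iff.1 h)

/-- (I1) -/
theorem Setup.inK [Finite G] (S : Setup z K hzK N) : ∀ k ∈ K, IsConj z k → k = z := by
  intro e heK he
  by_contra hne
  obtain ⟨g, hg⟩ := isConj_iff.1 he
  have hee := sq_conj S.zz he
  have he1 := ne_conj S.z_ne he
  obtain ⟨Y, hY, hYe, hcY, hN⟩ := S.kf.inv1 ⟨e, heK⟩ (Subtype.ext hee) (fun h => he1 (congrArg Subtype.val h))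
    (fun h => hne (congrArg Subtype.val h))
  -- `g⁻¹ Y g ≤ K`
  have hYK : (Y.map K.subtype).map (MulAut.conj g⁻¹).toMonoidHom ≤ K := by
    apply S.perf
    · rw [← map_commutator, ← map_commutator, hY]
    · rintro _ ⟨_, ⟨y, hy, rfl⟩, rfl⟩
      show g⁻¹ * (y : G) * g⁻¹⁻¹ * z = z * (g⁻¹ * (y : G) * g⁻¹⁻¹)
      have h1 : (y : G) * e = e * y := congrArg Subtype.val (hYe y hy)
      rw [← hg] at h1
      calc g⁻¹ * (y : G) * g⁻¹⁻¹ * z = g⁻¹ * (y * (g * z * g⁻¹)) * g := by group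
        _ = g⁻¹ * (g * z * g⁻¹ * y) * g := by rw [h1]
        _ = _ := by group
  have hmem : ∀ y ∈ Y, g⁻¹ * (y : G) * g ∈ K := by
    intro y hy
    have h1 : g⁻¹ * (y : G) * g = (MulAut.conj g⁻¹).toMonoidHom (y : G) := by
      show g⁻¹ * (y : G) * g = g⁻¹ * (y : G) * g⁻¹⁻¹
      rw [inv_inv]
    rw [h1]
    exact hYK ⟨_, ⟨y, hy, rfl⟩, rfl⟩
  have hz' : g⁻¹ * z * g ∈ K := hmem _ hcY
  have hz'1 : g⁻¹ * z * g ≠ 1 := by
    intro h
    apply S.z_ne
    calc z = g * (g⁻¹ * z * g) * g⁻¹ := by group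
      _ = 1 := by rw [h]; group
  have hz'z : g⁻¹ * z * g ≠ z := by
    intro h
    apply hne
    rw [← hg]
    calc g * z * g⁻¹ = g * (g⁻¹ * z * g) * g⁻¹ := by rw [h]
      _ = z := by group
  have hz'2 : g⁻¹ * z * g * (g⁻¹ * z * g) = 1 := by
    calc g⁻¹ * z * g * (g⁻¹ * z * g) = g⁻¹ * (z * z) * g := by group
      _ = 1 := by rw [S.zz]; group
  have h2 := S.kf.inv2 ⟨g⁻¹ * z * g, hz'⟩ (Subtype.ext hz'2) (fun h => hz'1 (congrArg Subtype.val h))
    (fun h => hz'z (congrArg Subtype.val h))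
  have h3 : Nat.card {x : K // x ∈ Y ∧ x * x = ⟨z, hzK⟩} ≤
      Nat.card {x : K // x * x = ⟨g⁻¹ * z * g, hz'⟩} := by
    refine Nat.card_le_card_of_injective (fun x => ⟨⟨g⁻¹ * x.1 * g, hmem x.1 x.2.1⟩, ?_⟩) ?_
    · apply Subtype.ext
      show g⁻¹ * (x.1 : G) * g * (g⁻¹ * (x.1 : G) * g) = g⁻¹ * z * g
      have h4 : (x.1 : G) * x.1 = z := congrArg Subtype.val x.2.2
      calc g⁻¹ * (x.1 : G) * g * (g⁻¹ * (x.1 : G) * g) = g⁻¹ * ((x.1 : G) * x.1) * g := by group
        _ = _ := by rw [h4]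
    · intro x y h
      have h4 : g⁻¹ * (x.1 : G) * g = g⁻¹ * (y.1 : G) * g := congrArg (fun w => ((w.1 : K) : G)) h
      exact Subtype.ext (Subtype.ext (mul_left_cancel (mul_right_cancel h4)))
  omega

/-- (I2) -/
theorem Setup.inKR [Finite G] (S : Setup z K hzK N) {e : G} (he : IsConj z e) (hKR : InKR K e) : e = z := by
  by_contra hne
  obtain ⟨v, hv, r, hr, rfl⟩ := hKR
  have hee := sq_conj S.zz he
  have hvr : r * v = v * r := hr v hv
  have h1 : v * v * (r * r) = 1 := by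
    calc v * v * (r * r) = v * (v * r) * r := by group
      _ = v * (r * v) * r := by rw [hvr]
      _ = 1 := by rw [← hee]; group
  have hvc : v * v = 1 ∨ v * v = z := by
    apply S.cen _ (mul_mem hv hv)
    intro x hx
    have h2 : v * v = (r * r)⁻¹ := eq_inv_of_mul_eq_one_left h1
    have h3 : r * r * x = x * (r * r) := by
      calc r * r * x = r * (r * x) := by group
        _ = r * (x * r) := by rw [hr x hx]
        _ = (r * x) * r := by group
        _ = (x * r) * r := by rw [hr x hx]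
        _ = _ := by group
    rw [h2, inv_mul_eq_iff_eq_mul, ← mul_assoc, h3, mul_inv_cancel_right]
  rcases hvc with hvc | hvc
  · -- `e ∈ K`
    rw [hvc, one_mul] at h1
    apply hne
    apply S.inK _ _ he
    rcases S.inv r hr h1 with h | h
    · rw [h, mul_one]; exact hv
    · rw [h]; exact mul_mem hv hzK
  · obtain ⟨Y, hY, hYv, x, hx, hx1, k, hk⟩ := S.kf.four ⟨v, hv⟩ (Subtype.ext hvc)
    obtain ⟨g, hg⟩ := isConj_iff.1 he.symm
    -- `g (v r) g⁻¹ = z`
    have hge : v * r = g⁻¹ * z * g := by rw [← hg]; group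
    have hk' : (k : G) * v * (k : G)⁻¹ = v * x := congrArg Subtype.val hk
    have hkr : r * k = k * r := hr k k.2
    have hxr : r * (x : G) = x * r := hr x x.2
    refine Cfsg.Agent.OddHalf.D9.ExTrick.false_of_pair (z := z) (g := g) (K := K) hzK S.perf S.inK ?_
      (Y := Y.map K.subtype) (by
        show ⁅Y.map K.subtype, Y.map K.subtype⁆ = Y.map K.subtype
        rw [← map_commutator, hY]) ?_ (x := x) ⟨x, hx, rfl⟩ (fun h => hx1 (Subtype.ext h)) (Or.inr ?_)
    · intro h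
      have h2 := S.inK _ h (isConj_iff.2 ⟨g, rfl⟩)
      apply hne
      rw [hge]
      calc g⁻¹ * z * g = g⁻¹ * (g * z * g⁻¹) * g := by rw [h2]
        _ = z := by group
    · rintro _ ⟨y, hy, rfl⟩
      show (y : G) * (g⁻¹ * z * g) = g⁻¹ * z * g * y
      rw [← hge]
      have h2 : (y : G) * v = v * y := congrArg Subtype.val (hYv y hy)
      calc (y : G) * (v * r) = (y * v) * r := by group
        _ = v * (y * r) := by rw [h2]; group
        _ = v * (r * y) := by rw [hr y y.2]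
        _ = _ := by group
    · rw [← hge]
      refine he.trans (isConj_iff.2 ⟨k, ?_⟩)
      calc (k : G) * (v * r) * (k : G)⁻¹ = k * v * (r * (k : G)⁻¹) := by group
        _ = k * v * ((k : G)⁻¹ * r) := by
            rw [hr _ (inv_mem k.2)]
        _ = (k * v * (k : G)⁻¹) * r := by group
        _ = v * (x * r) := by rw [hk']; group
        _ = v * (r * x) := by rw [hxr]
        _ = _ := by group

/-- an automorphism of `K` induced by `h` that is inner -/
theorem inKR_of_inner {K : Subgroup G} {h : G} (k : G) (hk : k ∈ K)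
    (hc : ∀ x ∈ K, h * x * h⁻¹ = k * x * k⁻¹) : InKR K h := by
  refine ⟨k, hk, k⁻¹ * h, ?_, by group⟩
  intro y hy
  have h1 := hc y hy
  calc k⁻¹ * h * y = k⁻¹ * (h * y * h⁻¹) * h := by group
    _ = k⁻¹ * (k * y * k⁻¹) * h := by rw [h1]
    _ = _ := by group

/-- (O) -/
theorem Setup.outer [Finite G] (S : Setup z K hzK N) {e : G} (he : IsConj z e) (hez : e * z = z * e)
    (hKR : ¬ InKR K e) : False := by
  have hee := sq_conj S.zz he
  set α : MulAut K := conjAut e (S.norm e hez) (S.norm' hez) with hα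
  have hαx : ∀ x : K, ((α x : K) : G) = e * x * e⁻¹ := fun _ => rfl
  obtain ⟨y, w, hy, hyy, hw⟩ := S.kf.aut_out α
    (Subtype.ext (by
      show e * z * e⁻¹ = z
      rw [hez]; group))
    (by
      ext x
      show e * (e * (x : G) * e⁻¹) * e⁻¹ = x
      calc e * (e * (x : G) * e⁻¹) * e⁻¹ = (e * e) * x * (e * e)⁻¹ := by group
        _ = x := by rw [hee]; group)
    (by
      intro k hk
      apply hKR
      refine inKR_of_inner (k : G) k.2 fun x hx => ?_
      have h1 := congrArg (fun β : MulAut K => ((β ⟨x, hx⟩ : K) : G)) hk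
      exact h1)
  have hy' : e * (y : G) * e⁻¹ = y := congrArg Subtype.val hy
  have hye : (y : G) * e = e * y := (mul_inv_eq_iff_eq_mul.1 hy').symm
  have hw' : e * (w : G) * e⁻¹ = y * y * w := congrArg Subtype.val hw
  obtain ⟨g, hg⟩ := isConj_iff.1 he
  -- `e y⁻²` is conjugate to `z`
  have h1 : IsConj z (e * ((y : G) * y)⁻¹) := by
    refine he.trans (isConj_iff.2 ⟨w, ?_⟩)
    have h2 : e * (w : G)⁻¹ = (w : G)⁻¹ * ((y : G) * y)⁻¹ * e := by
      have h3 : (e * (w : G) * e⁻¹)⁻¹ = ((y : G) * y * w)⁻¹ := by rw [hw']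
      calc e * (w : G)⁻¹ = (e * (w : G) * e⁻¹)⁻¹ * e := by group
        _ = _ := by rw [h3]; group
    have h4 : ((y : G) * y)⁻¹ * e = e * ((y : G) * y)⁻¹ := by
      rw [inv_mul_eq_iff_eq_mul, ← mul_assoc]
      have h5 : (y : G) * y * e = e * (y * y) := by
        calc (y : G) * y * e = y * (y * e) := by group
          _ = y * (e * y) := by rw [hye]
          _ = (y * e) * y := by group
          _ = (e * y) * y := by rw [hye]
          _ = _ := by group
      rw [h5, mul_inv_cancel_right]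
    calc (w : G) * e * (w : G)⁻¹ = w * (e * (w : G)⁻¹) := by group
      _ = ((y : G) * y)⁻¹ * e := by rw [h2]; group
      _ = _ := h4
  -- transport by `g⁻¹`
  set y' : G := g⁻¹ * y * g with hy'def
  have hy'z : y' * z = z * y' := by
    have hz : z = g⁻¹ * e * g := by rw [← hg]; group
    calc y' * z = g⁻¹ * y * g * (g⁻¹ * e * g) := by rw [← hz]
      _ = g⁻¹ * (y * e) * g := by group
      _ = g⁻¹ * (e * y) * g := by rw [hye]
      _ = (g⁻¹ * e * g) * (g⁻¹ * y * g) := by group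
      _ = z * y' := by rw [← hz]
  obtain ⟨k, hk⟩ := S.kf.aut_sq (conjAut y' (S.norm y' hy'z) (S.norm' hy'z))
    (Subtype.ext (by
      show y' * z * y'⁻¹ = z
      rw [hy'z]; group))
  obtain ⟨k', hk', r, hr, hyr⟩ : InKR K (y' * y') := by
    refine inKR_of_inner (k : G) k.2 fun x hx => ?_
    have h2 : y' * (y' * x * y'⁻¹) * y'⁻¹ = k * x * (k : G)⁻¹ :=
      congrArg (fun β : MulAut K => ((β ⟨x, hx⟩ : K) : G)) hk
    rw [← h2]; group
  have h2 : IsConj z (z * (y' * y')⁻¹) := by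
    refine h1.trans (isConj_iff.2 ⟨g⁻¹, ?_⟩)
    rw [hy'def, ← hg]; group
  have h3 : InKR K (z * (y' * y')⁻¹) := by
    refine ⟨z * k'⁻¹, mul_mem hzK (inv_mem hk'), r⁻¹, ?_, ?_⟩
    · intro x hx
      rw [inv_mul_eq_iff_eq_mul, ← mul_assoc, hr x hx, mul_inv_cancel_right]
    · rw [hyr, mul_inv_rev]
      have h4 : r⁻¹ * k'⁻¹ = k'⁻¹ * r⁻¹ := by
        have h5 := hr k' hk'
        calc r⁻¹ * k'⁻¹ = (k' * r)⁻¹ := by group
          _ = (r * k')⁻¹ := by rw [h5]
          _ = _ := by group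
      rw [h4]; group
  have h4 := S.inKR h2 h3
  have h5 : y' * y' = 1 := by
    have h6 : (y' * y')⁻¹ = 1 := mul_eq_left.1 h4
    rwa [inv_eq_one] at h6
  apply hyy
  apply Subtype.ext
  show (y : G) * y = 1
  calc (y : G) * y = g * (y' * y') * g⁻¹ := by rw [hy'def]; group
    _ = 1 := by rw [h5]; group

/-- **The kill.** -/
theorem Setup.false [Finite G] [IsSimpleGroup G] (S : Setup z K hzK N) (hna : ¬ IsMulCommutative G) : False := by
  have hz : orderOf z = 2 := orderOf_eq_prime (by rw [pow_two, S.zz]) S.z_ne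
  obtain ⟨g, h1, h2⟩ := StandardComponent.AltFinal.exists_conj hna hz
  have he : IsConj z (g * z * g⁻¹) := isConj_iff.2 ⟨g, rfl⟩
  by_cases hKR : InKR K (g * z * g⁻¹)
  · exact h1 (S.inKR he hKR)
  · exact S.outer he h2 hKR

end

end Cfsg.Agent.OddHalf.D9.J2.Kill

end

-- merged: Cfsg.Agent.OddHalf.D9.Basic
section

/-!
# D9: a standard subgroup `K` with an involution `z` in its centre, `C(K)` cyclic

`Conf G K z`: `G` simple, `K` perfect, `z ∈ Z(K)` an involution, `C_G(K)` a cyclic `2`-group, `C_G(z) = N_G(K)`.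
`of_std` derives it from the hypotheses of the node `Iface.D9`.

* [a] `z` is the only conjugate of `z` in `C_G(K)`; some conjugate `e ≠ z` commutes with `z` (`Z*`);
* [b] SWAP: for such an `e` there is `h` with `h e h⁻¹ = z`, and `e' := h z h⁻¹` is again such a conjugate;
  `h` maps `D(e) = C(z) ∩ C(e)` onto `D(e')`.
-/

set_option autoImplicit false

namespace Cfsg.Agent.OddHalf.D9.Basic

open Subgroup Cfsg.Agent.OddHalf.Iface
open scoped commutatorElement

/-- The configuration of D9. -/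
structure Conf (G : Type*) [Group G] (K : Subgroup G) (z : G) : Prop where
  fin : Finite G
  simple : IsSimpleGroup G
  na : ¬ IsMulCommutative G
  perf : ⁅K, K⁆ = K
  z1 : z ≠ 1
  zz : z * z = 1
  zK : z ∈ K
  zR : z ∈ centralizer (K : Set G)
  Rcyc : IsCyclic ↥(centralizer (K : Set G))
  R2 : IsPGroup 2 ↥(centralizer (K : Set G))
  uniq : ∀ y ∈ centralizer (K : Set G), y * y = 1 → y = 1 ∨ y = z
  H : centralizer ({z} : Set G) = normalizer (K : Set G)

section Core

variable {G : Type*} [Group G]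

/-- A subgroup of `C(z)` of odd order normalized by `C(z)` is trivial if `O(C(z)) = 1`. -/
theorem eq_bot_of_odd {z : G} (hb : centralizerPPrimeCore 2 z = ⊥) {N : Subgroup G}
    (hN : N ≤ centralizer ({z} : Set G))
    (hn : ∀ g ∈ centralizer ({z} : Set G), ∀ x ∈ N, g * x * g⁻¹ ∈ N) (ho : Odd (Nat.card N)) : N = ⊥ := by
  have hnorm : (N.subgroupOf (centralizer ({z} : Set G))).Normal := by
    refine ⟨fun n hn' g => ?_⟩
    rw [mem_subgroupOf] at hn' ⊢
    exact hn g g.2 n hn'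
  have hcop : (Nat.card (N.subgroupOf (centralizer ({z} : Set G)))).Coprime 2 := by
    rw [Nat.card_congr (subgroupOfEquivOfLe hN).toEquiv]
    exact Nat.coprime_two_right.2 ho
  have hle : N.subgroupOf (centralizer ({z} : Set G)) ≤ pPrimeCore 2 (centralizer ({z} : Set G)) :=
    le_sSup ⟨hnorm, hcop⟩
  rw [eq_bot_iff, ← hb]
  intro n hn'
  exact ⟨⟨n, hN hn'⟩, hle hn', rfl⟩

/-- A finite group with cyclic Sylow `2`-subgroups has a normal subgroup of odd order whose index is a power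
of `2`, namely the elements of odd order. -/
theorem exists_complement {C : Type*} [Group C] [Finite C] (hC : ∀ R : Sylow 2 C, IsCyclic R) :
    ∃ N : Subgroup C, N.Characteristic ∧ Odd (Nat.card N) ∧ (N = ⊥ → IsPGroup 2 C ∧ IsCyclic C) := by
  have : Fact (Nat.Prime 2) := ⟨Nat.prime_two⟩
  obtain ⟨P⟩ : Nonempty (Sylow 2 C) := inferInstance
  have hP := hC P
  by_cases h2 : 2 ∣ Nat.card C
  · have hmin : (Nat.card C).minFac = 2 := (Nat.minFac_eq_two_iff _).2 h2
    have hcomp := hP.isComplement' hmin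
    set N := (MonoidHom.transferSylow P (hP.normalizer_le_centralizer hmin)).ker with hN
    have hodd : ¬ 2 ∣ Nat.card N := MonoidHom.not_dvd_card_ker_transferSylow P _
    have hmem : ∀ x : C, x ∈ N ↔ ¬ 2 ∣ orderOf x := by
      intro x
      constructor
      · intro hx h
        apply hodd
        have : orderOf (⟨x, hx⟩ : N) ∣ Nat.card N := orderOf_dvd_natCard _
        rw [orderOf_mk] at this
        exact h.trans this
      · intro hx
        -- the image of `x` in the `2`-group `C / N` is trivial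
        have h1 : IsPGroup 2 (C ⧸ N) := by
          have hidx : N.index = Nat.card P := hcomp.symm.index_eq_card
          obtain ⟨n, hn⟩ := P.2.exists_card_eq
          apply IsPGroup.of_card (n := n)
          rw [← hn, ← hidx]; rfl
        obtain ⟨k, hk⟩ := IsPGroup.iff_orderOf.1 h1 (x : C ⧸ N)
        have h2 : orderOf (x : C ⧸ N) ∣ orderOf x := orderOf_map_dvd (QuotientGroup.mk' N) x
        rw [hk] at h2
        rcases Nat.eq_zero_or_pos k with rfl | hk0
        · rw [pow_zero, orderOf_eq_one_iff, QuotientGroup.eq_one_iff] at hk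
          exact hk
        · exact absurd ((dvd_pow_self 2 (by omega)).trans h2) hx
    refine ⟨N, ?_, ?_, ?_⟩
    · rw [characteristic_iff_comap_le]
      intro φ x hx
      rw [mem_comap, MulEquiv.coe_toMonoidHom, hmem, MulEquiv.orderOf_eq] at hx
      rwa [hmem]
    · exact Nat.odd_iff.2 (by omega)
    · intro hb
      have htop : (P : Subgroup C) = ⊤ := by
        rw [hb] at hcomp
        exact isComplement'_bot_left.1 hcomp
      refine ⟨?_, ?_⟩
      · have := P.2
        rw [htop] at this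
        exact this.of_equiv Subgroup.topEquiv
      · have h3 : IsCyclic (⊤ : Subgroup C) := by rw [← htop]; exact hP
        exact isCyclic_of_surjective (Subgroup.topEquiv : (⊤ : Subgroup C) ≃* C)
          (Subgroup.topEquiv : (⊤ : Subgroup C) ≃* C).surjective
  · refine ⟨⊤, inferInstance, ?_, ?_⟩
    · rw [card_top, Nat.odd_iff]; omega
    · intro h
      have hs : Subsingleton C := by
        refine ⟨fun a b => ?_⟩
        have ha : a ∈ (⊤ : Subgroup C) := mem_top a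
        have hb' : b ∈ (⊤ : Subgroup C) := mem_top b
        rw [h, mem_bot] at ha hb'
        rw [ha, hb']
      exact ⟨IsPGroup.of_card (n := 0) (by rw [pow_zero]; exact Nat.card_unique), inferInstance⟩

/-- An element normalizing `C` normalizes the characteristic subgroups of `C`. -/
theorem aux_char {C : Subgroup G} (N : Subgroup C) [hN : N.Characteristic] {g : G}
    (hg : g ∈ normalizer (C : Set G)) (y : C) (hy : y ∈ N) : g * y * g⁻¹ ∈ N.map C.subtype := by
  have hmem : ∀ x : G, x ∈ C ↔ g * x * g⁻¹ ∈ C := fun x => mem_normalizer_iff.1 hg x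
  let φ : C ≃* C :=
    { toFun := fun x => ⟨g * x * g⁻¹, (hmem x).1 x.2⟩
      invFun := fun x => ⟨g⁻¹ * x * g, by
        rw [hmem]
        have : g * (g⁻¹ * (x : G) * g) * g⁻¹ = x := by group
        rw [this]; exact x.2⟩
      left_inv := fun x => Subtype.ext (by simp only; group)
      right_inv := fun x => Subtype.ext (by simp only; group)
      map_mul' := fun x y => Subtype.ext (by simp only [coe_mul]; group) }
  have h1 : φ y ∈ N := by
    have := hN.fixed φ
    rw [← this] at hy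
    exact hy
  exact ⟨φ y, h1, rfl⟩

end Core

/-- the involution of a cyclic group is unique -/
theorem cyclic_unique {R : Type*} [Group R] [IsCyclic R] [Finite R] {a b : R} (ha : orderOf a = 2)
    (hb : orderOf b = 2) : a = b := by
  classical
  have : Fintype R := Fintype.ofFinite R
  by_contra hab
  have h1 := IsCyclic.card_pow_eq_one_le (α := R) (n := 2) (by decide)
  have hne : ∀ x : R, orderOf x = 2 → x ≠ 1 := by
    rintro x hx rfl
    rw [orderOf_one] at hx
    exact absurd hx (by decide)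
  have h2 : ({1, a, b} : Finset R) ⊆ Finset.univ.filter (fun x : R => x ^ 2 = 1) := by
    intro x hx
    rw [Finset.mem_filter]
    refine ⟨Finset.mem_univ _, ?_⟩
    simp only [Finset.mem_insert, Finset.mem_singleton] at hx
    rcases hx with rfl | rfl | rfl
    · exact one_pow 2
    · rw [← ha]; exact pow_orderOf_eq_one _
    · rw [← hb]; exact pow_orderOf_eq_one _
  have h3 := Finset.card_le_card h2
  rw [Finset.card_insert_of_notMem, Finset.card_pair hab] at h3
  · omega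
  · simp only [Finset.mem_insert, Finset.mem_singleton, not_or]
    exact ⟨(hne a ha).symm, (hne b hb).symm⟩

universe u

/-- **D9, reduction**: the configuration `Conf`. -/
theorem of_std {G : Type u} [Group G] (hG : Ctx G) {K : Subgroup G} (hK : Std0 G K) (hc : Cyc K)
    (hZ : center ↥K ≠ ⊥) : ∃ z : G, Conf G K z := by
  have hfin := hG.fin
  have : Fact (Nat.Prime 2) := ⟨Nat.prime_two⟩
  -- an involution in `Z(K)`
  have h2 : 2 ∣ Nat.card (center ↥K) := by
    obtain ⟨n, hn⟩ := hK.z2.exists_card_eq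
    rcases Nat.eq_zero_or_pos n with rfl | h
    · rw [pow_zero, Subgroup.card_eq_one] at hn
      exact absurd hn hZ
    · rw [hn]; exact dvd_pow_self 2 (by omega)
  obtain ⟨⟨⟨z, hzK⟩, hzc⟩, hz⟩ := exists_prime_orderOf_dvd_card' 2 h2
  rw [orderOf_mk, orderOf_mk] at hz
  have hz1 : z ≠ 1 := by
    rintro rfl
    rw [orderOf_one] at hz
    exact absurd hz (by decide)
  have hzz : z * z = 1 := by
    rw [← pow_two, ← hz]; exact pow_orderOf_eq_one z
  have hzR : z ∈ centralizer (K : Set G) := by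
    rw [mem_centralizer_iff]
    intro l hl
    exact congrArg Subtype.val (mem_center_iff.1 hzc ⟨l, hl⟩)
  -- `C(z) ≤ N(K)`
  have hle := (Cfsg.Agent.S1754.result K hK.std z hz hzR).1
  have hRle : centralizer (K : Set G) ≤ centralizer ({z} : Set G) := by
    intro x hx
    rw [mem_centralizer_singleton_iff]
    exact (mem_centralizer_iff.1 hx z hzK).symm
  -- `C(K)` is a cyclic 2-group
  obtain ⟨N, hNc, hNo, hNb⟩ := exists_complement (C := ↥(centralizer (K : Set G))) hc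
  have hN0 : N.map (centralizer (K : Set G)).subtype = ⊥ := by
    apply eq_bot_of_odd (hG.bal z hz)
    · rintro x ⟨y, -, rfl⟩
      exact hRle y.2
    · rintro g hg x ⟨y, hy, rfl⟩
      have hg' : g ∈ normalizer (centralizer (K : Set G) : Set G) := by
        rw [← hK.std.2.2.2]; exact hle hg
      exact aux_char N hg' y hy
    · rw [Nat.card_congr (N.equivMapOfInjective _ (centralizer (K : Set G)).subtype_injective).symm.toEquiv]
      exact hNo
  have hN1 : N = ⊥ := by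
    rw [← Subgroup.map_eq_bot_iff_of_injective N (centralizer (K : Set G)).subtype_injective]
    exact hN0
  obtain ⟨hR2, hRc⟩ := hNb hN1
  have huniq : ∀ y ∈ centralizer (K : Set G), y * y = 1 → y = 1 ∨ y = z := by
    intro y hy hyy
    by_contra hcon
    push Not at hcon
    have hy2 : orderOf (⟨y, hy⟩ : ↥(centralizer (K : Set G))) = 2 := by
      rw [orderOf_mk]
      exact orderOf_eq_prime (by rw [pow_two]; exact hyy) hcon.1
    have hz2 : orderOf (⟨z, hzR⟩ : ↥(centralizer (K : Set G))) = 2 := by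
      rw [orderOf_mk]; exact hz
    exact hcon.2 (congrArg Subtype.val (cyclic_unique hy2 hz2))
  refine ⟨z, hfin, hG.simple, hG.na, ?_, hz1, hzz, hzK, hzR, hRc, hR2, huniq, le_antisymm hle ?_⟩
  · have h1 : Group.IsPerfect ↥K := hK.std.1.1
    have h2 : ⁅(⊤ : Subgroup ↥K), ⊤⁆ = ⊤ := h1.commutator_eq_top
    have h3 := congrArg (Subgroup.map K.subtype) h2
    rw [Subgroup.map_commutator, ← MonoidHom.range_eq_map, K.range_subtype] at h3
    exact h3
  · intro x hx
    rw [mem_centralizer_singleton_iff]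
    have h1 : x * z * x⁻¹ ∈ centralizer (K : Set G) := by
      have hx' : x ∈ normalizer (centralizer (K : Set G) : Set G) := by
        rw [← hK.std.2.2.2]; exact hx
      exact (mem_normalizer_iff.1 hx' z).1 hzR
    have h2 : x * z * x⁻¹ * (x * z * x⁻¹) = 1 := by
      calc x * z * x⁻¹ * (x * z * x⁻¹) = x * (z * z) * x⁻¹ := by group
        _ = 1 := by rw [hzz]; group
    rcases huniq _ h1 h2 with h3 | h3
    · exfalso
      apply hz1
      rw [mul_inv_eq_one] at h3
      exact mul_eq_left.1 h3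
    · exact mul_inv_eq_iff_eq_mul.1 h3

/-! ### [a] the conjugates of `z` in `C(z)` -/

/-- `e` is a conjugate of `z`, different from `z` and commuting with `z`. -/
structure Adj {G : Type*} [Group G] (z e : G) : Prop where
  conj : IsConj z e
  ne : e ≠ z
  comm : e * z = z * e

section A

variable {G : Type*} [Group G] {K : Subgroup G} {z : G}

theorem Adj.ee (h : z * z = 1) {e : G} (he : Adj z e) : e * e = 1 := by
  obtain ⟨g, hg⟩ := isConj_iff.1 he.conj
  rw [← hg]
  calc g * z * g⁻¹ * (g * z * g⁻¹) = g * (z * z) * g⁻¹ := by group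
    _ = 1 := by rw [h]; group

theorem Adj.ne_one (h : z ≠ 1) {e : G} (he : Adj z e) : e ≠ 1 := by
  rintro rfl
  obtain ⟨g, hg⟩ := isConj_iff.1 he.conj
  apply h
  rw [mul_inv_eq_one] at hg
  exact mul_eq_left.1 hg

theorem Conf.orderOf_z (c : Conf G K z) : orderOf z = 2 :=
  orderOf_eq_prime (by rw [pow_two]; exact c.zz) c.z1

theorem Conf.exists_adj (c : Conf G K z) : ∃ e, Adj z e := by
  have := c.fin
  have := c.simple
  obtain ⟨h, h1, h2⟩ := Cfsg.Agent.StandardComponent.StdCtx.fusion c.na c.orderOf_z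
  exact ⟨h * z * h⁻¹, isConj_iff.2 ⟨h, rfl⟩, h2, h1⟩

/-- A conjugate of `z` in `C(K)` is `z`. -/
theorem Conf.eq_z (c : Conf G K z) {e : G} (he : IsConj z e) (hC : e ∈ centralizer (K : Set G)) : e = z := by
  obtain ⟨g, hg⟩ := isConj_iff.1 he
  have h2 : e * e = 1 := by
    rw [← hg]
    calc g * z * g⁻¹ * (g * z * g⁻¹) = g * (z * z) * g⁻¹ := by group
      _ = 1 := by rw [c.zz]; group
  rcases c.uniq e hC h2 with h3 | h3
  · exfalso
    apply c.z1
    rw [h3, mul_inv_eq_one] at hg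
    exact mul_eq_left.1 hg
  · exact h3

theorem Conf.adj_notMem (c : Conf G K z) {e : G} (he : Adj z e) : e ∉ centralizer (K : Set G) :=
  fun h => he.ne (c.eq_z he.conj h)

theorem Conf.adj_mem (c : Conf G K z) {e : G} (he : Adj z e) : e ∈ normalizer (K : Set G) := by
  rw [← c.H, mem_centralizer_singleton_iff]
  exact he.comm

theorem Conf.Kle (c : Conf G K z) : K ≤ centralizer ({z} : Set G) := by
  rw [c.H]; exact le_normalizer

theorem Conf.Rle (c : Conf G K z) : centralizer (K : Set G) ≤ centralizer ({z} : Set G) := by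
  intro x hx
  rw [mem_centralizer_singleton_iff]
  exact (mem_centralizer_iff.1 hx z c.zK).symm

/-! ### [b] SWAP -/

/-- **SWAP**: for an adjacent `e` there is `h` with `h e h⁻¹ = z`, and `h z h⁻¹` is adjacent. -/
theorem swap {e : G} (he : Adj z e) : ∃ h e' : G, h * e * h⁻¹ = z ∧ h * z * h⁻¹ = e' ∧ Adj z e' := by
  obtain ⟨g, hg⟩ := isConj_iff.1 he.conj
  have h1 : g⁻¹ * e * g⁻¹⁻¹ = z := by rw [← hg]; group
  refine ⟨g⁻¹, g⁻¹ * z * g⁻¹⁻¹, h1, rfl, isConj_iff.2 ⟨g⁻¹, rfl⟩, ?_, ?_⟩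
  · intro h
    apply he.ne
    have h2 : g⁻¹ * e * g⁻¹⁻¹ = g⁻¹ * z * g⁻¹⁻¹ := h1.trans h.symm
    exact mul_left_cancel (mul_right_cancel h2)
  · calc g⁻¹ * z * g⁻¹⁻¹ * z = g⁻¹ * z * g⁻¹⁻¹ * (g⁻¹ * e * g⁻¹⁻¹) := by rw [h1]
      _ = g⁻¹ * (z * e) * g⁻¹⁻¹ := by group
      _ = g⁻¹ * (e * z) * g⁻¹⁻¹ := by rw [he.comm]
      _ = g⁻¹ * e * g⁻¹⁻¹ * (g⁻¹ * z * g⁻¹⁻¹) := by group
      _ = z * (g⁻¹ * z * g⁻¹⁻¹) := by rw [h1]

/-- `C(z) ∩ C(e)`. -/
def D (z e : G) : Subgroup G := centralizer ({z} : Set G) ⊓ centralizer ({e} : Set G)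

theorem mem_D {z e x : G} : x ∈ D z e ↔ x * z = z * x ∧ x * e = e * x := by
  rw [D, mem_inf, mem_centralizer_singleton_iff, mem_centralizer_singleton_iff]

theorem D_comm (z e : G) : D z e = D e z := by rw [D, D, inf_comm]

/-- The element of SWAP maps `D z e` onto `D z e'`. -/
theorem map_D {z e e' h : G} (h1 : h * e * h⁻¹ = z) (h2 : h * z * h⁻¹ = e') :
    (D z e).map (MulAut.conj h).toMonoidHom = D z e' := by
  have key : ∀ (h z e e' : G), h * e * h⁻¹ = z → h * z * h⁻¹ = e' → ∀ x ∈ D z e, h * x * h⁻¹ ∈ D z e' := by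
    intro h z e e' h1 h2 x hx
    obtain ⟨hx1, hx2⟩ := mem_D.1 hx
    refine mem_D.2 ⟨?_, ?_⟩
    · calc h * x * h⁻¹ * z = h * x * h⁻¹ * (h * e * h⁻¹) := by rw [h1]
        _ = h * (x * e) * h⁻¹ := by group
        _ = h * (e * x) * h⁻¹ := by rw [hx2]
        _ = (h * e * h⁻¹) * (h * x * h⁻¹) := by group
        _ = z * (h * x * h⁻¹) := by rw [h1]
    · calc h * x * h⁻¹ * e' = h * x * h⁻¹ * (h * z * h⁻¹) := by rw [h2]
        _ = h * (x * z) * h⁻¹ := by group
        _ = h * (z * x) * h⁻¹ := by rw [hx1]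
        _ = (h * z * h⁻¹) * (h * x * h⁻¹) := by group
        _ = e' * (h * x * h⁻¹) := by rw [h2]
  apply le_antisymm
  · rintro y ⟨x, hx, rfl⟩
    exact key h z e e' h1 h2 x hx
  · intro y hy
    obtain ⟨hy1, hy2⟩ := mem_D.1 hy
    refine ⟨h⁻¹ * y * h, ?_, by
      simp only [MulEquiv.toMonoidHom_eq_coe, MonoidHom.coe_coe, MulAut.conj_apply]; group⟩
    refine mem_D.2 ⟨?_, ?_⟩
    · calc h⁻¹ * y * h * z = h⁻¹ * (y * (h * z * h⁻¹)) * h := by group
        _ = h⁻¹ * (y * e') * h := by rw [h2]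
        _ = h⁻¹ * (e' * y) * h := by rw [hy2]
        _ = h⁻¹ * ((h * z * h⁻¹) * y) * h := by rw [h2]
        _ = z * (h⁻¹ * y * h) := by group
    · calc h⁻¹ * y * h * e = h⁻¹ * (y * (h * e * h⁻¹)) * h := by group
        _ = h⁻¹ * (y * z) * h := by rw [h1]
        _ = h⁻¹ * (z * y) * h := by rw [hy1]
        _ = h⁻¹ * ((h * e * h⁻¹) * y) * h := by rw [h1]
        _ = e * (h⁻¹ * y * h) := by group

/-! ### [c] perfect residues -/

/-- The largest perfect subgroup of `D`. -/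
def Res (D : Subgroup G) : Subgroup G := sSup {P | P ≤ D ∧ ⁅P, P⁆ = P}

theorem Res_le (D : Subgroup G) : Res D ≤ D := sSup_le fun _ h => h.1

theorem le_Res {D P : Subgroup G} (h : P ≤ D) (hP : ⁅P, P⁆ = P) : P ≤ Res D := le_sSup ⟨h, hP⟩

theorem Res_perfect (D : Subgroup G) : ⁅Res D, Res D⁆ = Res D := by
  apply le_antisymm
  · rw [commutator_le]
    intro a ha b hb
    exact (Res D).mul_mem ((Res D).mul_mem ((Res D).mul_mem ha hb) ((Res D).inv_mem ha))
      ((Res D).inv_mem hb)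
  · apply sSup_le
    rintro P ⟨h1, h2⟩
    calc P = ⁅P, P⁆ := h2.symm
      _ ≤ ⁅Res D, Res D⁆ := commutator_mono (le_Res h1 h2) (le_Res h1 h2)

theorem Res_mono {D E : Subgroup G} (h : D ≤ E) : Res D ≤ Res E :=
  le_Res ((Res_le D).trans h) (Res_perfect D)

theorem map_Res_le {G' : Type*} [Group G'] (f : G →* G') (D : Subgroup G) :
    (Res D).map f ≤ Res (D.map f) := by
  apply le_Res (map_mono (Res_le D))
  rw [← map_commutator, Res_perfect]

theorem map_Res (h : G) (D : Subgroup G) :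
    (Res D).map (MulAut.conj h).toMonoidHom = Res (D.map (MulAut.conj h).toMonoidHom) := by
  apply le_antisymm (map_Res_le _ D)
  have h1 := map_Res_le (MulAut.conj h⁻¹).toMonoidHom (D.map (MulAut.conj h).toMonoidHom)
  have h2 : ∀ E : Subgroup G, (E.map (MulAut.conj h).toMonoidHom).map (MulAut.conj h⁻¹).toMonoidHom = E := by
    intro E
    rw [Subgroup.map_map]
    have : (MulAut.conj h⁻¹).toMonoidHom.comp (MulAut.conj h).toMonoidHom = MonoidHom.id G := by
      ext x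
      simp only [MulEquiv.toMonoidHom_eq_coe, MonoidHom.coe_comp, MonoidHom.coe_coe,
        Function.comp_apply, MulAut.conj_apply, MonoidHom.id_apply]
      group
    rw [this, Subgroup.map_id]
  rw [h2] at h1
  have h3 := map_mono (f := (MulAut.conj h).toMonoidHom) h1
  refine le_trans (le_of_eq ?_) h3
  rw [Subgroup.map_map]
  have : (MulAut.conj h).toMonoidHom.comp (MulAut.conj h⁻¹).toMonoidHom = MonoidHom.id G := by
    ext x
    simp only [MulEquiv.toMonoidHom_eq_coe, MonoidHom.coe_comp, MonoidHom.coe_coe,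
      Function.comp_apply, MulAut.conj_apply, MonoidHom.id_apply]
    group
  rw [this, Subgroup.map_id]

/-- **SWAP for the residue**: `z ∈ D(e)^∞ ↔ e' ∈ D(e')^∞` and `e ∈ D(e)^∞ ↔ z ∈ D(e')^∞`. -/
theorem swap_Res {z e e' h : G} (h1 : h * e * h⁻¹ = z) (h2 : h * z * h⁻¹ = e') (x : G) :
    x ∈ Res (D z e) ↔ h * x * h⁻¹ ∈ Res (D z e') := by
  rw [← map_D h1 h2, ← map_Res]
  constructor
  · intro hx; exact ⟨x, hx, rfl⟩
  · rintro ⟨y, hy, hxy⟩
    have : y = x := by
      simp only [MulEquiv.toMonoidHom_eq_coe, MonoidHom.coe_coe, MulAut.conj_apply] at hxy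
      exact mul_left_cancel (mul_right_cancel hxy)
    rwa [← this]

/-- A perfect subgroup of `N(K)` lies in `K` if `K / Z(K)` has the Schreier property. -/
theorem Conf.perfect_le (c : Conf G K z) (hS : Cfsg.Agent.Schreier.Basic.Sch (↥K ⧸ center ↥K))
    {P : Subgroup G} (hP : P ≤ normalizer (K : Set G)) (hPp : ⁅P, P⁆ = P) : P ≤ K := by
  have hnorm : ∀ p ∈ P, ∀ k : ↥K, p * (k : G) * p⁻¹ ∈ K := fun p hp k =>
    (mem_normalizer_iff.1 (hP hp) k).1 k.2
  have hnorm' : ∀ p ∈ P, ∀ k : ↥K, p⁻¹ * (k : G) * p ∈ K := fun p hp k => by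
    have := hnorm p⁻¹ (P.inv_mem hp) k
    rwa [inv_inv] at this
  -- the action on `K`
  let act : ↥P →* MulAut ↥K :=
    { toFun := fun p =>
        { toFun := fun k => ⟨p * k * (p : G)⁻¹, hnorm p p.2 k⟩
          invFun := fun k => ⟨(p : G)⁻¹ * k * p, hnorm' p p.2 k⟩
          left_inv := fun k => Subtype.ext (by
            change (p : G)⁻¹ * (p * k * (p : G)⁻¹) * p = k
            group)
          right_inv := fun k => Subtype.ext (by
            change (p : G) * ((p : G)⁻¹ * k * p) * (p : G)⁻¹ = k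
            group)
          map_mul' := fun a b => Subtype.ext (by
            change (p : G) * (a * b) * (p : G)⁻¹ = p * a * (p : G)⁻¹ * (p * b * (p : G)⁻¹)
            group) }
      map_one' := by
        ext k
        change (1 : G) * k * (1 : G)⁻¹ = k
        group
      map_mul' := fun p q => by
        ext k
        change (p * q : G) * k * (p * q : G)⁻¹ = p * (q * k * (q : G)⁻¹) * (p : G)⁻¹
        group }
  have hact : ∀ (p : ↥P) (k : ↥K), ((act p k : ↥K) : G) = p * k * (p : G)⁻¹ := fun _ _ => rfl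
  -- the action on `K / Z(K)`
  have hcz : ∀ φ : MulAut ↥K, (center ↥K).map φ.toMonoidHom = center ↥K := fun φ =>
    characteristic_iff_map_eq.1 inferInstance φ
  let quo : MulAut ↥K →* MulAut (↥K ⧸ center ↥K) :=
    { toFun := fun φ => QuotientGroup.congr (center ↥K) (center ↥K) φ (hcz φ)
      map_one' := by
        ext x
        induction x using QuotientGroup.induction_on with
        | H c => rfl
      map_mul' := fun φ ψ => by
        ext x
        induction x using QuotientGroup.induction_on with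
        | H c => rfl }
  have hquo : ∀ (φ : MulAut ↥K) (k : ↥K), quo φ (k : ↥K ⧸ center ↥K) = (φ k : ↥K) := fun _ _ => rfl
  -- the image is perfect, hence inner
  have htop : ⁅(⊤ : Subgroup ↥P), (⊤ : Subgroup ↥P)⁆ = ⊤ := by
    apply Subgroup.map_injective P.subtype_injective
    rw [Subgroup.map_commutator, ← MonoidHom.range_eq_map, P.range_subtype]
    exact hPp
  have himg := hS _ (Cfsg.Agent.Schreier.Basic.map_perfect (quo.comp act) htop)
  have hperf : commutator ↥K = ⊤ := by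
    apply Subgroup.map_injective K.subtype_injective
    rw [commutator_def, Subgroup.map_commutator, ← MonoidHom.range_eq_map, K.range_subtype]
    exact c.perf
  -- `P ≤ K C(K)`
  have hmul : ∀ p ∈ P, ∃ k ∈ K, k⁻¹ * p ∈ centralizer (K : Set G) := by
    intro p hp
    obtain ⟨y, hy⟩ := himg ⟨(⟨p, hp⟩ : ↥P), mem_top _, rfl⟩
    obtain ⟨k, rfl⟩ := QuotientGroup.mk_surjective y
    have h2 : ∀ x : ↥K, (k * x * k⁻¹)⁻¹ * act ⟨p, hp⟩ x ∈ center ↥K := by
      intro x
      have h3 := DFunLike.congr_fun hy (QuotientGroup.mk x)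
      rw [MulAut.conj_apply] at h3
      rw [← QuotientGroup.eq]
      exact h3
    let δ : ↥K →* center ↥K :=
      { toFun := fun x => ⟨(k * x * k⁻¹)⁻¹ * act ⟨p, hp⟩ x, h2 x⟩
        map_one' := by
          apply Subtype.ext
          simp
        map_mul' := fun x y => by
          apply Subtype.ext
          show (k * (x * y) * k⁻¹)⁻¹ * act ⟨p, hp⟩ (x * y) =
            (k * x * k⁻¹)⁻¹ * act ⟨p, hp⟩ x * ((k * y * k⁻¹)⁻¹ * act ⟨p, hp⟩ y)
          have h3 := mem_center_iff.1 (h2 x) (k * y * k⁻¹)⁻¹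
          calc (k * (x * y) * k⁻¹)⁻¹ * act ⟨p, hp⟩ (x * y)
              = (k * y * k⁻¹)⁻¹ * ((k * x * k⁻¹)⁻¹ * act ⟨p, hp⟩ x) * act ⟨p, hp⟩ y := by
                rw [map_mul]; group
            _ = _ := by rw [h3]; group }
    have h4 : ∀ x, δ x = 1 := by
      intro x
      have h5 : commutator ↥K ≤ δ.ker := by
        rw [commutator_def, commutator_le]
        intro a _ b _
        rw [MonoidHom.mem_ker, map_commutatorElement]
        exact commutatorElement_eq_one_iff_mul_comm.2 (Subtype.ext (mem_center_iff.1 (δ b).2 (δ a)))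
      rw [hperf] at h5
      exact h5 (mem_top x)
    refine ⟨k, k.2, ?_⟩
    rw [mem_centralizer_iff]
    intro x hx
    have h5 : (k * ⟨x, hx⟩ * k⁻¹)⁻¹ * act ⟨p, hp⟩ ⟨x, hx⟩ = 1 := congrArg Subtype.val (h4 ⟨x, hx⟩)
    have h6 : (k : G) * x * (k : G)⁻¹ = p * x * p⁻¹ := by
      rw [inv_mul_eq_one] at h5
      exact congrArg Subtype.val h5
    calc x * ((k : G)⁻¹ * p) = (k : G)⁻¹ * (k * x * (k : G)⁻¹) * p := by group
      _ = (k : G)⁻¹ * (p * x * p⁻¹) * p := by rw [h6]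
      _ = (k : G)⁻¹ * p * x := by group
  -- commutators
  rw [← hPp, commutator_le]
  intro a ha b hb
  obtain ⟨k, hk, hkr⟩ := hmul a ha
  obtain ⟨l, hl, hlr⟩ := hmul b hb
  have hrs : (k⁻¹ * a) * (l⁻¹ * b) = (l⁻¹ * b) * (k⁻¹ * a) := by
    have := c.Rcyc
    have h1 : (⟨k⁻¹ * a, hkr⟩ : ↥(centralizer (K : Set G))) * ⟨l⁻¹ * b, hlr⟩ =
        ⟨l⁻¹ * b, hlr⟩ * ⟨k⁻¹ * a, hkr⟩ :=
      (IsCyclic.isMulCommutative (α := ↥(centralizer (K : Set G)))).is_comm.comm _ _
    exact congrArg Subtype.val h1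
  have e1 : ⁅a, b⁆ = ⁅k, l⁆ := by
    set r := k⁻¹ * a with hr
    set s := l⁻¹ * b with hs
    have ea : a = k * r := by rw [hr]; group
    have eb : b = l * s := by rw [hs]; group
    have c1 : r * l = l * r := (mem_centralizer_iff.1 hkr l hl).symm
    have c2 : s * k = k * s := (mem_centralizer_iff.1 hlr k hk).symm
    have c2' : s * k⁻¹ = k⁻¹ * s := by
      have := mem_centralizer_iff.1 hlr k⁻¹ (K.inv_mem hk)
      exact this.symm
    rw [ea, eb, commutatorElement_def, commutatorElement_def]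
    calc k * r * (l * s) * (k * r)⁻¹ * (l * s)⁻¹ = k * (r * l) * s * r⁻¹ * k⁻¹ * s⁻¹ * l⁻¹ := by group
      _ = k * l * (r * s) * r⁻¹ * k⁻¹ * s⁻¹ * l⁻¹ := by rw [c1]; group
      _ = k * l * (s * k⁻¹) * s⁻¹ * l⁻¹ := by rw [hrs]; group
      _ = k * l * k⁻¹ * l⁻¹ := by rw [c2']; group
  rw [e1, ← c.perf]
  exact commutator_mem_commutator hk hl

end A

/-- **The frame of `D9/Kill.lean`** from the node. -/
theorem fr_of_std {G : Type u} [Group G] (hG : Ctx G) {K : Subgroup G} (hK : Std0 G K) (hc : Cyc K)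
    (hZ : center ↥K ≠ ⊥) (hS : Cfsg.Agent.Schreier.Basic.Sch (↥K ⧸ center ↥K)) :
    ∃ z : G, Conf G K z ∧ Kill.Fr K z := by
  obtain ⟨z, c⟩ := of_std hG hK hc hZ
  have hn : ∀ h : G, h * z = z * h → h ∈ normalizer (K : Set G) := by
    intro h hh
    rw [← c.H, mem_centralizer_singleton_iff]
    exact hh
  refine ⟨z, c, ⟨c.zz, c.z1, c.zK, ?_, ?_, ?_, ?_, ?_⟩⟩
  · intro k hk
    exact mem_centralizer_iff.1 c.zR k hk
  · intro h hh k hk
    exact (mem_normalizer_iff.1 (hn h hh) k).1 hk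
  · intro P hP hPp
    refine c.perfect_le hS ?_ hPp
    intro x hx
    exact hn x (hP hx)
  · intro e _ he2 hek
    refine c.uniq e ?_ he2
    rw [mem_centralizer_iff]
    intro k hk
    exact (hek k hk).symm
  · obtain ⟨e, he⟩ := c.exists_adj
    obtain ⟨g, hg⟩ := isConj_iff.1 he.conj
    exact ⟨g, by rw [hg]; exact he.ne, by rw [hg]; exact he.comm⟩

end Cfsg.Agent.OddHalf.D9.Basic

end

-- merged: Cfsg.Agent.OddHalf.D9.J2.Row
section

/-!
# D9, row `2.J₂` (helper341)

`kf_of_card`: the facts `KF` for a finite perfect group `L` with centre of order 2 and `L / Z(L) ≃* J₂`.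
`false_of_conf`: no configuration `Basic.Conf` with `K = 2.J₂`.
-/

set_option autoImplicit false
set_option linter.style.haveILetI false

namespace Cfsg.Agent.OddHalf.D9.J2.Row

open Subgroup Cfsg Cfsg.Agent.OddHalf.D9.J2.Facts Cfsg.Agent.OddHalf.D9.J2.Kill
open Cfsg.Agent.KFacts.MulTwo Cfsg.Agent.KFacts.MulDef Cfsg.Agent.OddHalf.Iface
open scoped commutatorElement

universe u

/-! ### The facts -/

theorem mem_center_iff_of_card {L : Type*} [Group L] (h2 : Nat.card ↥(center L) = 2) {c : L}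
    (hc : c ∈ center L) (hc1 : c ≠ 1) (x : L) : x ∈ center L ↔ x = 1 ∨ x = c := by
  constructor
  · intro hx
    by_cases hx1 : x = 1
    · exact Or.inl hx1
    · right
      obtain ⟨z, hz1, hz2⟩ := (Nat.card_eq_two_iff' (1 : center L)).1 h2
      have e1 := hz2 ⟨x, hx⟩ (fun h => hx1 (congrArg Subtype.val h))
      have e2 := hz2 ⟨c, hc⟩ (fun h => hc1 (congrArg Subtype.val h))
      exact congrArg Subtype.val (e1.trans e2.symm)
  · rintro (rfl | rfl)
    · exact one_mem _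
    · exact hc

/-- the double cover -/
theorem exists_dbl {L : Type*} [Group L] (hp : commutator L = ⊤) (h2 : Nat.card ↥(center L) = 2)
    (hJ : Spor.IsoJ2 (L ⧸ center L)) {c : L} (hc : c ∈ center L) (hc1 : c ≠ 1) :
    ∃ π : L →* Spor.J2, Dbl π c := by
  obtain ⟨e⟩ := hJ
  have hm := mem_center_iff_of_card h2 hc hc1
  refine ⟨e.toMonoidHom.comp (QuotientGroup.mk' (center L)), ⟨⟨hc1, ?_, ?_, hp⟩,
    e.surjective.comp (QuotientGroup.mk'_surjective _), ?_⟩⟩
  · rcases (hm (c * c)).1 (mul_mem hc hc) with h | h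
    · exact h
    · exact absurd (mul_eq_left.1 h) hc1
  · intro x
    exact (mem_center_iff.1 hc x).symm
  · intro x
    show e (x : L ⧸ center L) = 1 ↔ _
    rw [e.map_eq_one_iff, QuotientGroup.eq_one_iff, hm]

/-- **The facts for `2.J₂`.** -/
theorem kf_of_card {L : Type*} [Group L] [Finite L] (hp : commutator L = ⊤) (h2 : Nat.card ↥(center L) = 2)
    (hJ : Spor.IsoJ2 (L ⧸ center L)) {c : L} (hc : c ∈ center L) (hc1 : c ≠ 1) : KF c 64 := by
  obtain ⟨π, hd⟩ := exists_dbl hp h2 hJ hc hc1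
  obtain ⟨t, u, Q, v, ρ, D⟩ := Cfsg.Agent.KFacts.J2.Basic.exists_dat
  have hfin : Finite Cfsg.Spor.J2 :=
    Nat.finite_of_card_ne_zero (by rw [Cfsg.Agent.S1619.result.2.2.2]; norm_num)
  exact kf hd D

/-! ### Perfect subgroups of `C(z)` -/

variable {G : Type*} [Group G]

/-- `K C(K)` -/
def KR (K : Subgroup G) : Subgroup G where
  carrier := {x | InKR K x}
  one_mem' := ⟨1, one_mem _, 1, fun y _ => by rw [one_mul, mul_one], by rw [one_mul]⟩
  mul_mem' := by
    rintro a b ⟨k, hk, r, hr, rfl⟩ ⟨k', hk', r', hr', rfl⟩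
    refine ⟨k * k', mul_mem hk hk', r * r', ?_, ?_⟩
    · intro y hy
      calc r * r' * y = r * (r' * y) := by group
        _ = (r * y) * r' := by rw [hr' y hy]; group
        _ = y * (r * r') := by rw [hr y hy]; group
    · calc k * r * (k' * r') = k * (r * k') * r' := by group
        _ = k * (k' * r) * r' := by rw [hr k' hk']
        _ = _ := by group
  inv_mem' := by
    rintro a ⟨k, hk, r, hr, rfl⟩
    refine ⟨k⁻¹, inv_mem hk, r⁻¹, ?_, ?_⟩
    · intro y hy
      rw [inv_mul_eq_iff_eq_mul, ← mul_assoc, hr y hy, mul_inv_cancel_right]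
    · calc (k * r)⁻¹ = (r * k)⁻¹ := by rw [hr k hk]
        _ = k⁻¹ * r⁻¹ := by group

theorem mem_KR {K : Subgroup G} {x : G} : x ∈ KR K ↔ InKR K x := Iff.rfl

/-- If all squares of elements of `C(z)` are in `K C(K)` and `C(K)` is commutative, the perfect subgroups of `C(z)`
lie in `K`. -/
theorem perf_le {z : G} {K : Subgroup G} (hnorm : ∀ h, h * z = z * h → ∀ k ∈ K, h * k * h⁻¹ ∈ K)
    (hsq : ∀ h, h * z = z * h → InKR K (h * h))
    (hcomm : ∀ r s : G, (∀ k ∈ K, r * k = k * r) → (∀ k ∈ K, s * k = k * s) → r * s = s * r)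
    {Y : Subgroup G} (hY : ⁅Y, Y⁆ = Y) (hYz : ∀ y ∈ Y, y * z = z * y) : Y ≤ K := by
  have hinv : ∀ h, h * z = z * h → h⁻¹ * z = z * h⁻¹ := by
    intro h hh
    rw [inv_mul_eq_iff_eq_mul, ← mul_assoc, hh, mul_inv_cancel_right]
  have hconj : ∀ h, h * z = z * h → ∀ x ∈ KR K, h * x * h⁻¹ ∈ KR K := by
    rintro h hh _ ⟨k, hk, r, hr, rfl⟩
    refine ⟨h * k * h⁻¹, hnorm h hh k hk, h * r * h⁻¹, ?_, by group⟩
    intro y hy
    have h1 : h⁻¹ * y * h ∈ K := by
      have := hnorm h⁻¹ (hinv h hh) y hy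
      rwa [inv_inv] at this
    calc h * r * h⁻¹ * y = h * (r * (h⁻¹ * y * h)) * h⁻¹ := by group
      _ = h * (h⁻¹ * y * h * r) * h⁻¹ := by rw [hr _ h1]
      _ = y * (h * r * h⁻¹) := by group
  have h1 : Y ≤ KR K := by
    rw [← hY, commutator_le]
    intro a ha b hb
    have e : ⁅a, b⁆ = (a * b) * (a * b) * (b⁻¹ * (a⁻¹ * a⁻¹) * b⁻¹⁻¹) * (b⁻¹ * b⁻¹) := by
      rw [commutatorElement_def]; group
    rw [e]
    refine mul_mem (mul_mem (hsq _ (hYz _ (mul_mem ha hb))) (hconj _ (hinv _ (hYz b hb)) _ ?_)) ?_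
    · exact hsq _ (hinv _ (hYz a ha))
    · exact hsq _ (hinv _ (hYz b hb))
  rw [← hY, commutator_le]
  intro a ha b hb
  obtain ⟨k, hk, r, hr, rfl⟩ := h1 ha
  obtain ⟨k', hk', r', hr', rfl⟩ := h1 hb
  have hr1 : ∀ k ∈ K, r⁻¹ * k = k * r⁻¹ := fun y hy => by
    rw [inv_mul_eq_iff_eq_mul, ← mul_assoc, hr y hy, mul_inv_cancel_right]
  have hr1' : ∀ k ∈ K, r'⁻¹ * k = k * r'⁻¹ := fun y hy => by
    rw [inv_mul_eq_iff_eq_mul, ← mul_assoc, hr' y hy, mul_inv_cancel_right]
  have e : ⁅k * r, k' * r'⁆ = ⁅k, k'⁆ := by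
    rw [commutatorElement_def, commutatorElement_def]
    calc k * r * (k' * r') * (k * r)⁻¹ * (k' * r')⁻¹ = k * (r * k') * r' * (r⁻¹ * k⁻¹) * r'⁻¹ * k'⁻¹ := by group
      _ = k * (k' * r) * r' * (k⁻¹ * r⁻¹) * r'⁻¹ * k'⁻¹ := by rw [hr k' hk', hr1 _ (inv_mem hk)]
      _ = k * k' * (r * r') * k⁻¹ * r⁻¹ * r'⁻¹ * k'⁻¹ := by group
      _ = k * k' * (r' * r) * k⁻¹ * r⁻¹ * r'⁻¹ * k'⁻¹ := by rw [hcomm r r' hr hr']
      _ = k * k' * r' * (r * k⁻¹) * r⁻¹ * r'⁻¹ * k'⁻¹ := by group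
      _ = k * k' * r' * (k⁻¹ * r) * r⁻¹ * r'⁻¹ * k'⁻¹ := by rw [hr _ (inv_mem hk)]
      _ = k * k' * (r' * k⁻¹) * r'⁻¹ * k'⁻¹ := by group
      _ = k * k' * (k⁻¹ * r') * r'⁻¹ * k'⁻¹ := by rw [hr' _ (inv_mem hk)]
      _ = _ := by group
  rw [e, commutatorElement_def]
  exact mul_mem (mul_mem (mul_mem hk hk') (inv_mem hk)) (inv_mem hk')

/-- **No configuration with `K = 2.J₂`.** -/
theorem false_of_conf {z : G} {K : Subgroup G} (c : Basic.Conf G K z) (h2 : Nat.card ↥(center ↥K) = 2)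
    (hJ : Spor.IsoJ2 (↥K ⧸ center ↥K)) : False := by
  haveI := c.fin
  haveI := c.simple
  have hp : commutator ↥K = ⊤ := by
    have h1 : (commutator ↥K).map K.subtype = (⊤ : Subgroup ↥K).map K.subtype := by
      rw [_root_.commutator_def, map_commutator, ← MonoidHom.range_eq_map, range_subtype, c.perf]
    exact map_injective K.subtype_injective h1
  have hzc : (⟨z, c.zK⟩ : ↥K) ∈ center ↥K := by
    rw [mem_center_iff]
    intro x
    apply Subtype.ext
    exact mem_centralizer_iff.1 c.zR (x : G) x.2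
  have hz1 : (⟨z, c.zK⟩ : ↥K) ≠ 1 := fun h => c.z1 (congrArg Subtype.val h)
  have hkf := kf_of_card hp h2 hJ hzc hz1
  have hnorm : ∀ h, h * z = z * h → ∀ k ∈ K, h * k * h⁻¹ ∈ K := by
    intro h hh k hk
    have h1 : h ∈ normalizer (K : Set G) := by
      rw [← c.H]
      exact mem_centralizer_singleton_iff.2 hh
    exact (mem_normalizer_iff.1 h1 k).1 hk
  have hcomm : ∀ r s : G, (∀ k ∈ K, r * k = k * r) → (∀ k ∈ K, s * k = k * s) → r * s = s * r := by
    intro r s hr hs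
    have hr' : r ∈ centralizer (K : Set G) := mem_centralizer_iff.2 fun k hk => (hr k hk).symm
    have hs' : s ∈ centralizer (K : Set G) := mem_centralizer_iff.2 fun k hk => (hs k hk).symm
    haveI := c.Rcyc
    have h1 := (IsCyclic.commGroup (α := ↥(centralizer (K : Set G)))).mul_comm ⟨r, hr'⟩ ⟨s, hs'⟩
    exact congrArg Subtype.val h1
  have hnorm' : ∀ h, h * z = z * h → ∀ k ∈ K, h⁻¹ * k * h ∈ K := by
    intro h hh k hk
    have h1 : h⁻¹ * z = z * h⁻¹ := by
      rw [inv_mul_eq_iff_eq_mul, ← mul_assoc, hh, mul_inv_cancel_right]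
    have := hnorm h⁻¹ h1 k hk
    rwa [inv_inv] at this
  have hsq : ∀ h, h * z = z * h → InKR K (h * h) := by
    intro h hh
    obtain ⟨k, hk⟩ := hkf.aut_sq (conjAut h (hnorm h hh) (hnorm' h hh)) (Subtype.ext (by
      show h * z * h⁻¹ = z
      rw [hh]; group))
    refine inKR_of_inner (k : G) k.2 fun x hx => ?_
    have h3 : h * (h * x * h⁻¹) * h⁻¹ = k * x * (k : G)⁻¹ :=
      congrArg (fun β : MulAut K => ((β ⟨x, hx⟩ : K) : G)) hk
    rw [← h3]; group
  refine Setup.false (z := z) (K := K) (hzK := c.zK) (N := 64) ⟨hkf, hnorm, ?_, ?_, ?_⟩ c.na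
  · intro Y hY hYz
    exact perf_le hnorm hsq hcomm hY hYz
  · intro r hr hrr
    exact c.uniq r (mem_centralizer_iff.2 fun k hk => (hr k hk).symm) hrr
  · intro k hk hkc
    have h1 : (⟨k, hk⟩ : ↥K) ∈ center ↥K := by
      rw [mem_center_iff]
      intro x
      apply Subtype.ext
      exact (hkc x x.2).symm
    rcases (mem_center_iff_of_card h2 hzc hz1 _).1 h1 with h | h
    · exact Or.inl (congrArg Subtype.val h)
    · exact Or.inr (congrArg Subtype.val h)

/-- **D9, row `2.J₂`**, from the configuration theorem (`Basic.of_std` for `Std0`). -/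
theorem row_of (hof : ∀ (G : Type u) [Group G], Ctx G → ∀ K : Subgroup G, Std0 G K → Cyc K → center ↥K ≠ ⊥ →
    ∃ z : G, Basic.Conf G K z) : Cut.Row.{u} (fun K _ => Cut.Two (fun X _ => Spor.IsoJ2 X) K) := by
  intro G _ C K S hc h
  haveI := C.fin
  obtain ⟨z, c⟩ := hof G C K S hc (fun hb => by
    have h1 := h.1
    rw [hb, Subgroup.card_bot] at h1
    omega)
  exact false_of_conf c h.1 h.2

end Cfsg.Agent.OddHalf.D9.J2.Row

end
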